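import Cfsg.Agent.SP.NegS.Gen

/-! # S5755, negative rows: more local analysis tools -/

set_option autoImplicit false
set_option linter.style.haveILetI false

namespace Cfsg.Agent.SP.NegS

open Subgroup Cfsg.Agent.SP

variable {T : Type*} [Group T]

theorem ord2 {x : T} (h : x * x = 1) (h1 : x ≠ 1) : orderOf x = 2 :=
  orderOf_eq_prime (by rw [pow_two, h]) h1

theorem exists_sub [Finite T] {S : Subgroup T} {p : ℕ} (hp : p.Prime) (hd : p ∣ Nat.card S) :
    ∃ g ∈ S, orderOf g = p ∧ zpowers g ≤ S ∧ Nat.card (zpowers g) = p := by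
  haveI := Fact.mk hp
  obtain ⟨x, hx⟩ := exists_prime_orderOf_dvd_card' (G := S) p hd
  rw [← orderOf_coe] at hx
  exact ⟨x, x.2, hx, zpowers_le.2 x.2, by rw [Nat.card_zpowers, hx]⟩

theorem cent_zpowers (g : T) :
    centralizer ((zpowers g : Subgroup T) : Set T) = centralizer ({g} : Set T) := by
  rw [zpowers_eq_closure, centralizer_closure]

theorem exists_ne_one {N : Subgroup T} (h : N ≠ ⊥) : ∃ z ∈ N, z ≠ 1 := by
  by_contra hc; push Not at hc; exact h ((eq_bot_iff_forall _).2 hc)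

/-- A Sylow subgroup of `S` as a subgroup of the ambient group. -/
theorem exists_sylow_sub [Finite T] (S : Subgroup T) {p : ℕ} (hp : p.Prime) :
    ∃ P : Subgroup T, P ≤ S ∧ Nat.card P = p ^ (Nat.card S).factorization p ∧
      ¬ p ^ ((Nat.card S).factorization p + 1) ∣ Nat.card S := by
  haveI := Fact.mk hp
  obtain ⟨Q⟩ : Nonempty (Sylow p S) := inferInstance
  refine ⟨(Q : Subgroup S).map S.subtype, map_subtype_le _, ?_,
    Nat.pow_succ_factorization_not_dvd Nat.card_pos.ne' hp⟩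
  rw [card_map_of_injective S.subtype_injective, Q.card_eq_multiplicity]

/-- Conjugacy of Sylow subgroups in ambient form. -/
theorem sylow_conj [Finite T] {S P P' : Subgroup T} {p k : ℕ} (hp : p.Prime) (hPS : P ≤ S)
    (hPS' : P' ≤ S) (hP : Nat.card P = p ^ k) (hP' : Nat.card P' = p ^ k)
    (hk : ¬ p ^ (k + 1) ∣ Nat.card S) : ∃ s ∈ S, ∀ x, x ∈ P' ↔ s * x * s⁻¹ ∈ P := by
  haveI := Fact.mk hp
  obtain ⟨Q, hQ⟩ := exists_sylow hPS hP hk
  obtain ⟨Q', hQ'⟩ := exists_sylow hPS' hP' hk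
  obtain ⟨s, hs⟩ := MulAction.exists_smul_eq S Q' Q
  have key : ∀ x ∈ P', (s : T) * x * (s : T)⁻¹ ∈ P := by
    intro x hx
    have h1 : (⟨x, hPS' hx⟩ : S) ∈ Q' := by
      rw [← SetLike.mem_coe, ← Q'.coe_coe, hQ']
      exact hx
    have h2 : s * ⟨x, hPS' hx⟩ * s⁻¹ ∈ s • Q' := by
      rw [Sylow.smul_def, ← SetLike.mem_coe, ← Sylow.coe_coe, Sylow.pointwise_smul_def]
      exact smul_mem_pointwise_smul _ _ _ h1
    rw [hs, ← SetLike.mem_coe, ← Q.coe_coe, hQ] at h2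
    exact h2
  have hle : P'.map (MulAut.conj (s : T)).toMonoidHom ≤ P := by
    rintro _ ⟨x, hx, rfl⟩; exact key x hx
  have he := eq_of_le_of_card_ge hle (by rw [card_map_conj, hP, hP'])
  refine ⟨s, s.2, fun x => ⟨key x, fun h => ?_⟩⟩
  rw [← he, mem_map_conj] at h
  simpa [mul_assoc] using h

theorem conj_mem_zpowers [Finite T] {x y : T} {p : ℕ} (hp : p.Prime) (h2 : ¬ p ^ 2 ∣ Nat.card T)
    (hx : orderOf x = p) (hy : orderOf y = p) : ∃ g : T, x ∈ zpowers (g * y * g⁻¹) := by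
  obtain ⟨s, -, hs⟩ := sylow_conj (S := ⊤) (P := zpowers y) (P' := zpowers x) (k := 1) hp le_top le_top
    (by rw [Nat.card_zpowers, hy, pow_one]) (by rw [Nat.card_zpowers, hx, pow_one])
    (by rwa [card_top])
  obtain ⟨n, hn⟩ := (hs x).1 (mem_zpowers x)
  refine ⟨s⁻¹, n, ?_⟩
  simp only at hn ⊢
  rw [conj_zpow, hn]; group

theorem exists_conj_mem [Finite T] {A : Subgroup T} {x : T} {p : ℕ} (hp : p.Prime)
    (h2 : ¬ p ^ 2 ∣ Nat.card T) (hx : orderOf x = p) (hA : p ∣ Nat.card A) :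
    ∃ g : T, x ∈ A.map (MulAut.conj g).toMonoidHom := by
  obtain ⟨y, hy, ho, -, -⟩ := exists_sub hp hA
  obtain ⟨g, hg⟩ := conj_mem_zpowers hp h2 hx ho
  exact ⟨g, (zpowers_le.2 (⟨y, hy, rfl⟩ : g * y * g⁻¹ ∈ A.map (MulAut.conj g).toMonoidHom)) hg⟩

theorem relIndex_conj (A B : Subgroup T) (g : T) :
    (B.map (MulAut.conj g).toMonoidHom).relIndex (A.map (MulAut.conj g).toMonoidHom) = B.relIndex A :=
  relIndex_map_map_of_injective _ _ (MulAut.conj g).injective

theorem normalizer_conj {A N : Subgroup T} (h : A ≤ normalizer (N : Set T)) (g : T) :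
    A.map (MulAut.conj g).toMonoidHom ≤
      normalizer ((N.map (MulAut.conj g).toMonoidHom : Subgroup T) : Set T) :=
  (map_mono h).trans (le_normalizer_map _)

theorem ElemAb.conj {N : Subgroup T} {p : ℕ} (h : ElemAb p N) (g : T) :
    ElemAb p (N.map (MulAut.conj g).toMonoidHom) := by
  refine ⟨h.1, ?_, ?_⟩
  · rintro _ ⟨x, hx, rfl⟩ _ ⟨y, hy, rfl⟩
    rw [← map_mul, ← map_mul, h.2.1 x hx y hy]
  · rintro _ ⟨x, hx, rfl⟩
    rw [← map_pow, h.2.2 x hx, map_one]

theorem ElemAb.isPGroup {N : Subgroup T} {p : ℕ} (h : ElemAb p N) : IsPGroup p N :=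
  fun x => ⟨1, Subtype.ext (by simpa using h.2.2 x x.2)⟩

theorem mem_of_coprime [Finite T] {A B : Subgroup T} (h : IsPair A B) {x : T} (hx : x ∈ A)
    (hc : (B.relIndex A).Coprime (orderOf x)) : x ∈ B := by
  haveI := h.2.2.1
  have h1 : x ^ B.relIndex A ∈ B := (B.subgroupOf A).pow_index_mem ⟨x, hx⟩
  obtain ⟨m, hm⟩ := exists_pow_eq_self_of_coprime hc
  exact hm ▸ B.pow_mem h1 m

theorem relIndex_dvd {A B : Subgroup T} (h : B ≤ A) : B.relIndex A ∣ Nat.card A :=
  Dvd.intro_left _ (card_mul_relIndex h)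

theorem sq_mem_of_two {A B : Subgroup T} (h2 : B.relIndex A = 2) {x : T} (hx : x ∈ A) :
    x * x ∈ B := by
  by_cases h : x ∈ B
  · exact B.mul_mem h h
  · exact mul_mem_of_two h2 hx hx h h

/-- A prime `q` with self-centralising elements acting on a normal `q'`-subgroup. -/
theorem sylow_cong [Finite T] {H S : Subgroup T} (hSH : S ≤ H) (hn : H ≤ normalizer (S : Set T))
    {p q : ℕ} (hq : q.Prime) (hp : p.Prime) (hpq : p ≠ q) (hqH : q ∣ Nat.card H)
    (hqS : ¬ q ∣ Nat.card S) (hC : ∀ y : T, orderOf y = q → Nat.card (centralizer ({y} : Set T)) = q) :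
    p ^ (Nat.card S).factorization p ≡ 1 [MOD q] := by
  obtain ⟨P, hPS, hP, hk⟩ := exists_sylow_sub S hp
  have h1 := frattini_card hp hPS hSH hn hP hk
  have h2 : q ∣ S.relIndex H := by
    rw [← card_mul_relIndex hSH] at hqH
    exact (hq.dvd_mul.1 hqH).resolve_left hqS
  obtain ⟨y, hy, ho, -, -⟩ := exists_sub hq (h1 ▸ h2.mul_left _)
  have h3 := card_cent_modEq (N := P) (x := y) (k := 1) hq
    (by rw [pow_one, ← ho, pow_orderOf_eq_one]) hy.2
  have h4 : Nat.card (P ⊓ centralizer ({y} : Set T) : Subgroup T) = 1 := by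
    refine Nat.eq_one_of_dvd_coprimes (a := p ^ (Nat.card S).factorization p) (b := q) ?_ ?_ ?_
    · exact ((Nat.coprime_primes hp hq).2 hpq).pow_left _
    · rw [← hP]; exact card_dvd_of_le inf_le_left
    · rw [← hC y ho]; exact card_dvd_of_le inf_le_right
  rwa [h4, hP] at h3

/-- A self-normalising subgroup of prime order has a normal complement. -/
theorem exists_compl [Finite T] {B : Subgroup T} {g : T} {q : ℕ} (hq : q.Prime) (hg : g ∈ B)
    (ho : orderOf g = q) (h2 : ¬ q ^ 2 ∣ Nat.card B)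
    (hN : Nat.card (B ⊓ normalizer ((zpowers g : Subgroup T) : Set T) : Subgroup T) = q) :
    ∃ K : Subgroup T, K ≤ B ∧ Nat.card K * q = Nat.card B ∧ B ≤ normalizer (K : Set T) ∧
      ¬ q ∣ Nat.card K := by
  have hc : Nat.card (zpowers g) = q := by rw [Nat.card_zpowers, ho]
  have hle : zpowers g ≤ B ⊓ normalizer ((zpowers g : Subgroup T) : Set T) :=
    le_inf (zpowers_le.2 hg) le_normalizer
  have he := eq_of_le_of_card_ge hle (by rw [hN, hc])
  obtain ⟨K, hKB, hK, hmem⟩ := burnside (k := 1) hq (zpowers_le.2 hg) (by rw [hc, pow_one]) h2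
    fun s hs hsn x hx => by
      obtain ⟨a, rfl⟩ : s ∈ zpowers g := he ▸ ⟨hs, hsn⟩
      obtain ⟨b, rfl⟩ := hx
      exact ((Commute.refl g).zpow_zpow b a).eq
  rw [pow_one] at hK
  refine ⟨K, hKB, hK, le_normalizer_iff.2 fun b hb k hk => ?_, fun hd => h2 ?_⟩
  · rw [hmem _ (B.mul_mem (B.mul_mem hb (hKB hk)) (B.inv_mem hb))]
    have := orderOf_conj' b⁻¹ k
    rw [inv_inv] at this
    rw [this]
    exact (hmem k (hKB hk)).1 hk
  · rw [← hK, pow_two]; exact Nat.mul_dvd_mul_right hd q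

/-- the class of `n` under `A` -/
def cls (A : Subgroup T) (n : T) : Set T := {y | ∃ a ∈ A, a * n * a⁻¹ = y}

theorem mem_cls_self (A : Subgroup T) (n : T) : n ∈ cls A n := ⟨1, A.one_mem, by simp⟩

theorem conj_mem_cls {A : Subgroup T} {n a y : T} (ha : a ∈ A) (hy : y ∈ cls A n) :
    a * y * a⁻¹ ∈ cls A n := by
  obtain ⟨b, hb, rfl⟩ := hy
  exact ⟨a * b, A.mul_mem ha hb, by group⟩

theorem ncard_cls [Finite T] (A : Subgroup T) (n : T) :
    (cls A n).ncard * Nat.card (A ⊓ centralizer ({n} : Set T) : Subgroup T) = Nat.card A := by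
  rw [← card_inf_mul_relIndex A (centralizer ({n} : Set T)), mul_comm]
  congr 1
  rw [← Nat.card_coe_set_eq, relIndex, index]
  let f : A → cls A n := fun g => ⟨g * n * (g : T)⁻¹, g, g.2, rfl⟩
  have hf : ∀ g h : A, (QuotientGroup.leftRel ((centralizer ({n} : Set T)).subgroupOf A)) g h →
      f g = f h := by
    intro g h e
    have e0 : g⁻¹ * h ∈ (centralizer ({n} : Set T)).subgroupOf A := QuotientGroup.leftRel_apply.1 e
    have e' : (g : T)⁻¹ * h * n = n * ((g : T)⁻¹ * h) := mem_centralizer_singleton_iff.1 e0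
    apply Subtype.ext
    show (g : T) * n * (g : T)⁻¹ = h * n * (h : T)⁻¹
    calc (g : T) * n * (g : T)⁻¹ = g * (n * ((g : T)⁻¹ * h)) * (h : T)⁻¹ := by group
      _ = h * n * (h : T)⁻¹ := by rw [← e']; group
  refine (Nat.card_congr (Equiv.ofBijective (Quotient.lift f hf) ⟨?_, ?_⟩)).symm
  · rintro ⟨g⟩ ⟨h⟩ e
    have e' : (g : T) * n * (g : T)⁻¹ = h * n * (h : T)⁻¹ := congrArg Subtype.val e
    exact Quotient.sound (QuotientGroup.leftRel_apply.2
      (mem_centralizer_singleton_iff.2 (comm_of_conj_eq e')))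
  · rintro ⟨_, g, hg, rfl⟩
    exact ⟨Quotient.mk _ ⟨g, hg⟩, rfl⟩

/-- A `p`-group normalising a non-trivial `p`-group centralises a non-trivial element. -/
theorem exists_cent [Finite T] {D N : Subgroup T} {p : ℕ} (hp : p.Prime) (hD : IsPGroup p D)
    (hDN : D ≤ normalizer (N : Set T)) (hN : p ∣ Nat.card N) :
    ∃ n ∈ N, n ≠ 1 ∧ D ≤ centralizer ({n} : Set T) := by
  haveI := Fact.mk hp
  letI : MulAction D N := MulAction.compHom N (N.normalizerMonoidHom.comp (inclusion hDN))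
  have hs : ∀ (g : D) (n : N), ((g • n : N) : T) = g * n * (g : T)⁻¹ := fun _ _ => rfl
  have h1 : (1 : N) ∈ MulAction.fixedPoints D N := fun g => Subtype.ext (by rw [hs]; simp)
  obtain ⟨n, hn, hne⟩ := hD.exists_fixed_point_of_prime_dvd_card_of_fixed_point N hN h1
  refine ⟨n, n.2, fun e => hne (Subtype.ext e.symm), fun d hd => ?_⟩
  have h2 := congrArg Subtype.val (hn ⟨d, hd⟩)
  rw [hs] at h2
  exact mem_centralizer_singleton_iff.2 (mul_inv_eq_iff_eq_mul.1 h2)

/-- A class of size prime to `p` in a normal `p`-subgroup. -/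
theorem exists_cls [Finite T] {A N : Subgroup T} {p : ℕ} (hp : p.Prime)
    (hAN : A ≤ normalizer (N : Set T)) (hN : p ∣ Nat.card N) :
    ∃ n ∈ N, n ≠ 1 ∧ ¬ p ∣ (cls A n).ncard ∧ (cls A n).ncard ∣ Nat.card A := by
  obtain ⟨P, hPA, hP, hk⟩ := exists_sylow_sub A hp
  obtain ⟨n, hn, hn1, hC⟩ := exists_cent hp (IsPGroup.of_card hP) (hPA.trans hAN) hN
  have h1 := ncard_cls A n
  refine ⟨n, hn, hn1, fun hd => hk ?_, Dvd.intro _ h1⟩
  have h2 : Nat.card P ∣ Nat.card (A ⊓ centralizer ({n} : Set T) : Subgroup T) :=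
    card_dvd_of_le (le_inf hPA hC)
  rw [pow_succ', ← hP]
  exact h1 ▸ Nat.mul_dvd_mul hd h2

/-- A non-trivial `r`-element has a power of order `r`. -/
theorem exists_pow_order [Finite T] {x : T} {r k : ℕ} (hr : r.Prime) (hk : x ^ r ^ k = 1)
    (hx1 : x ≠ 1) : ∃ j, orderOf (x ^ j) = r := by
  obtain ⟨j, -, hj⟩ := (Nat.dvd_prime_pow hr).1 (orderOf_dvd_of_pow_eq_one hk)
  rcases j with _ | j
  · exact absurd (orderOf_eq_one_iff.1 (by simpa using hj)) hx1
  refine ⟨r ^ j, ?_⟩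
  rw [orderOf_pow' _ (pow_pos hr.pos j).ne', hj, Nat.gcd_eq_right (pow_dvd_pow r j.le_succ),
    pow_succ, Nat.mul_div_cancel_left _ (pow_pos hr.pos j)]

theorem cent_le_pow (x : T) (j : ℕ) : centralizer ({x} : Set T) ≤ centralizer ({x ^ j} : Set T) :=
  fun _ hy => mem_centralizer_singleton_iff.2
    ((show Commute _ x from mem_centralizer_singleton_iff.1 hy).pow_right j).eq

theorem eq_one_of_pow {x : T} {r k m : ℕ} (hk : x ^ r ^ k = 1) (hm : x ^ m = 1)
    (hc : r.Coprime m) : x = 1 :=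
  orderOf_eq_one_iff.1 (Nat.eq_one_of_dvd_coprimes (hc.pow_left k) (orderOf_dvd_of_pow_eq_one hk)
    (orderOf_dvd_of_pow_eq_one hm))

theorem ord_of_sq [Finite T] {x : T} {r k : ℕ} (hr : r.Prime) (h2 : ¬ r ^ 2 ∣ Nat.card T)
    (hk : x ^ r ^ k = 1) (hx1 : x ≠ 1) : orderOf x = r := by
  obtain ⟨j, -, hj⟩ := (Nat.dvd_prime_pow hr).1 (orderOf_dvd_of_pow_eq_one hk)
  rcases j with _ | _ | j
  · exact absurd (orderOf_eq_one_iff.1 (by simpa using hj)) hx1
  · simpa using hj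
  · exact absurd ((pow_dvd_pow r (by omega)).trans (hj ▸ orderOf_dvd_natCard x)) h2

theorem out_sub {A B : Subgroup T} {r : ℕ} : ∀ x ∈ outElems A B r, x ∈ A ∧ x ∉ B :=
  fun _ hx => ⟨hx.1, hx.2.1⟩

theorem count_c [Finite T] {A B : Subgroup T} (h : IsPair A B) {r : ℕ} (hr : r.Prime)
    (hd : r ∣ B.relIndex A) {c : ℕ}
    (hc : ∀ x : T, x ≠ 1 → ∀ k, x ^ r ^ k = 1 → Nat.card (centralizer ({x} : Set T)) ≤ c) :
    (r - 1) * Nat.card T ≤ (outElems A B r).ncard ^ 2 * c := by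
  have := h.count_out hr hd (fun _ => ()) (fun _ _ _ => rfl) (fun _ => (outElems A B r).ncard)
    (fun _ => c) (fun _ => by simp) fun x hx =>
      let ⟨_, hxB, k, hk⟩ := hx; hc x (fun e => hxB (e ▸ B.one_mem)) k hk
  simpa using this

/-- A class of three commuting involutions gives a normalised four-group. -/
theorem four_of_three {A : Subgroup T} {O : Set T} (hO : O.ncard = 3)
    (hc : ∀ x ∈ O, ∀ y ∈ O, x * y = y * x) (h2 : ∀ x ∈ O, x * x = 1)
    (hA : ∀ a ∈ A, ∀ x ∈ O, a * x * a⁻¹ ∈ O) :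
    ∃ u v : T, u * u = 1 ∧ v * v = 1 ∧ u ≠ 1 ∧ v ≠ 1 ∧ v ≠ u ∧ v * u = u * v ∧
      ∀ a ∈ A, ∀ s ∈ ({u, v, u * v} : Set T), a * s * a⁻¹ ∈ ({u, v, u * v} : Set T) := by
  obtain ⟨a, b, c, hab, hac, hbc, rfl⟩ := Set.ncard_eq_three.1 hO
  have ha : a * a = 1 := h2 a (by simp)
  have hb : b * b = 1 := h2 b (by simp)
  have hc2 : c * c = 1 := h2 c (by simp)
  have cab : Commute a b := hc a (by simp) b (by simp)
  have cac : Commute a c := hc a (by simp) c (by simp)
  have cbc : Commute b c := hc b (by simp) c (by simp)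
  have ne1 : ∀ x y : T, x * x = 1 → x ≠ y → x * y ≠ 1 := fun x y hx hxy e =>
    hxy (mul_left_cancel (hx.trans e.symm))
  have e3 : a * b * (a * c) = b * c := by
    rw [cab.eq, mul_assoc, ← mul_assoc a a, ha, one_mul]
  have key : ∀ x ∈ ({a, b, c} : Set T), ∀ y ∈ ({a, b, c} : Set T), x ≠ y →
      x * y ∈ ({a * b, a * c, b * c} : Set T) := by
    intro x hx y hy hxy
    rcases hx with rfl | rfl | rfl <;> rcases hy with rfl | rfl | rfl <;>
      first | exact absurd rfl hxy | simp [cab.eq, cac.eq, cbc.eq]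
  refine ⟨a * b, a * c, by rw [← pow_two, cab.mul_pow, pow_two, pow_two, ha, hb, one_mul],
    by rw [← pow_two, cac.mul_pow, pow_two, pow_two, ha, hc2, one_mul], ne1 a b ha hab,
    ne1 a c ha hac, fun e => hbc (mul_left_cancel e).symm,
    (((Commute.refl a).mul_right cab).mul_left (cac.symm.mul_right cbc.symm)).eq, ?_⟩
  rw [e3]
  have k2 : ∀ g ∈ A, ∀ x ∈ ({a, b, c} : Set T), ∀ y ∈ ({a, b, c} : Set T), x ≠ y →
      g * (x * y) * g⁻¹ ∈ ({a * b, a * c, b * c} : Set T) := by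
    intro g hg x hx y hy hxy
    rw [← conj_mul]
    exact key _ (hA g hg x hx) _ (hA g hg y hy) fun e => hxy (by simpa using e)
  rintro g hg _ (rfl | rfl | rfl)
  · exact k2 g hg a (by simp) b (by simp) hab
  · exact k2 g hg a (by simp) c (by simp) hac
  · exact k2 g hg b (by simp) c (by simp) hbc

end Cfsg.Agent.SP.NegS
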