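import Cfsg.Agent.SP.NegS.M22D
import Cfsg.Agent.SP.NegS.Gen2
import Cfsg.Agent.KFacts.MM.InvM22
import Cfsg.Agent.H456.FourA

/-! # S5755, the row of `M22`: local facts and the `{2,3}`-case -/

set_option autoImplicit false
set_option linter.style.haveILetI false

namespace Cfsg.Agent.SP.NegS.M22

open Subgroup Cfsg.Agent.SP Cfsg.Agent.SP.NegS Cfsg.Agent.SP.NegS.Eng
open Cfsg.Agent.SporadicA.GolayBase Cfsg.Agent.SporadicA.GolayPerm Cfsg.Agent.H921.M22.Facts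
open Cfsg.Agent.SporadicStructure.M24El Cfsg.Agent.KFacts.MM

abbrev T : Type := Spor.M22

/-- the action on the indices -/
noncomputable abbrev MA : NA T where
  n := 24
  act g i := El.val (g : Equiv.Perm GolayPt) i
  app := papp
  lt _ _ _ := El.val_lt _ _
  mul _ _ _ _ := El.val_mul _ _ _
  one _ hi := El.val_one hi
  ext _ _ h := Subtype.ext (El.ext_val h)

theorem cardT : Nat.card T = 443520 := card_M22

theorem card_dvd (A : Subgroup T) : Nat.card A ∣ 443520 := cardT ▸ A.card_subgroup_dvd_card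

theorem rep_mk {P : ℕ} (h : okM P = true) : MA.Rep P (mk P) := fun i hi => by
  show papp P i = idx (((mk P : T) : Equiv.Perm GolayPt) (pt i))
  rw [coe_mk h, coe_el (okM.ok h), idx_permOf, idx_pt hi]

theorem R {P : ℕ} (h : M22.el P oks = true) : MA.Rep P (mk P) :=
  rep_mk (List.all_eq_true.1 c_oks P (el_mem h))

theorem RL {L : List ℕ} (h : (L.all fun P => M22.el P oks) = true) : ∀ P ∈ L, ∃ g, MA.Rep P g :=
  fun P hP => ⟨_, R (List.all_eq_true.1 h P hP)⟩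

theorem complete : MA.Complete chain :=
  complete_of_card c_valid (fun l hl u hu =>
    ⟨_, rep_mk (List.all_eq_true.1 (List.all_eq_true.1 c_chain l hl) u hu)⟩) (by rw [c_prod, cardT])

theorem act0 (g : T) : MA.act g 0 = 0 := by
  have h : (g : Equiv.Perm GolayPt) (some 0) = some 0 := g.2.2
  show idx ((g : Equiv.Perm GolayPt) (pt 0)) = 0
  rw [show pt 0 = some 0 from rfl, h]; rfl

theorem act23 (g : T) : MA.act g 23 = 23 := by
  have h : (g : Equiv.Perm GolayPt) none = none := g.2.1.2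
  show idx ((g : Equiv.Perm GolayPt) (pt 23)) = 23
  rw [show pt 23 = none from rfl, h]; rfl

theorem eq_one_of_isId {w : List ℕ} {g : T} (hw : MA.Ag w g) (h : isId w = true) : g = 1 :=
  eq_of_weq hw NA.ag_nil h

theorem isId_of {w : List ℕ} {g : T} (hw : MA.Ag w g) (h : g = 1) : isId w = true :=
  weq_of_eq (M := MA) hw (h ▸ NA.ag_nil)

theorem ne_one_of {w : List ℕ} {g : T} (hw : MA.Ag w g) (h : (!isId w) = true) : g ≠ 1 :=
  fun e => by rw [isId_of hw e] at h; exact absurd h (by simp)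

theorem com_of {P Q : ℕ} {g h : T} (hg : MA.Rep P g) (hh : MA.Rep Q h) (e : g * h = h * g) :
    com P Q = true := weq_of_eq (M := MA) (hh.ag2 hg) (e ▸ hg.ag2 hh)

theorem comm_of {P Q : ℕ} {g h : T} (hg : MA.Rep P g) (hh : MA.Rep Q h) (e : com P Q = true) :
    g * h = h * g := (eq_of_weq (hh.ag2 hg) (hg.ag2 hh) e).symm

theorem rz : MA.Rep z0 (mk z0) := R (by decide +kernel)
theorem rq0 : MA.Rep q0 (mk q0) := R (by decide +kernel)
theorem rq0i : MA.Rep q0i (mk q0i) := R (by decide +kernel)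
theorem rq1 : MA.Rep q1 (mk q1) := R (by decide +kernel)
theorem rq1i : MA.Rep q1i (mk q1i) := R (by decide +kernel)
theorem rq2 : MA.Rep q2 (mk q2) := R (by decide +kernel)
theorem rv1 : MA.Rep v1 (mk v1) := R (by decide +kernel)
theorem rid : MA.Rep idT 1 := by
  have h := c_q1
  simp only [Bool.and_eq_true] at h
  have h1 : MA.Rep idT (mk idT) := R (by decide +kernel)
  rwa [eq_one_of_isId h1.ag h.2.2.2] at h1

theorem nrm_single {G : Type*} [Group G] {M : NA G} {P : ℕ} {z x : G} (hz : M.Rep P z)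
    (h : x * z = z * x) : Nrm (M.S [P]) x := by
  rw [S_cons P [] hz, S_nil]
  rintro s (rfl | hs)
  · refine ⟨Or.inl (mul_inv_eq_iff_eq_mul.2 h), Or.inl ?_⟩
    rw [mul_assoc, ← h, inv_mul_cancel_left]
  · exact hs.elim

theorem memC0 {x : T} (h : x * mk z0 = mk z0 * x) : x ∈ MA.S LC0 :=
  let ⟨_, hw, hQ⟩ := run1 complete c_C0 (RL (by decide +kernel)) (nrm_single rz h)
  mem_S_of_any hw hQ

theorem memCq0 {x : T} (h : x * mk q0 = mk q0 * x) : x ∈ MA.S LCq0 :=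
  let ⟨_, hw, hQ⟩ := run1 complete c_Cq (RL (by decide +kernel)) (nrm_single rq0 h)
  mem_S_of_any hw hQ

theorem memCq {x : T} (h : x * mk q1 = mk q1 * x) : x ∈ MA.S LCq := by
  have hc := c_Cq1
  rw [Bool.and_eq_true] at hc
  have hg : MA.Rep g0 (mk g0) := R (by decide +kernel)
  rw [mem_S_conj hg hc.1 (RL (by decide +kernel))]
  have h1 : mk q1 ∈ MA.S [q1] := ⟨q1, List.mem_singleton_self _, rq1⟩
  rw [mem_S_conj hg hc.2 (RL (by decide +kernel)), S_cons _ _ rq0, S_nil] at h1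
  have h2 : (mk g0)⁻¹ * mk q1 * mk g0 = mk q0 := h1.resolve_right id
  apply memCq0
  rw [← h2]
  calc _ = (mk g0)⁻¹ * (x * mk q1) * mk g0 := by group
    _ = _ := by rw [h]; group

theorem inv_conj {u : T} (h2 : u * u = 1) (h1 : u ≠ 1) : ∃ g : T, g⁻¹ * u * g = mk z0 := by
  obtain ⟨g, hg, e⟩ := InvM22.inv22 u u.2 (congrArg Subtype.val h2) fun e => h1 (Subtype.ext e)
  refine ⟨⟨g, hg⟩, Subtype.ext ?_⟩
  have hz : okM z0 = true := by decide +kernel
  have : ((mk z0 : T) : Equiv.Perm GolayPt) = El.pm Data.zP := by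
    rw [coe_mk hz, coe_el (okM.ok hz), El.pm_eq (InvM22.isPerm_of_ok InvM22.ok_z)]
    rfl
  rw [this]
  show g⁻¹ * (u : Equiv.Perm GolayPt) * g = _
  rw [e]; group

theorem ord_q0 : orderOf (mk q0) = 3 := by
  have h := c_q0
  simp only [Bool.and_eq_true] at h
  exact orderOf_eq_prime (eq_one_of_isId (rq0.pow 3) h.2.1) (ne_one_of rq0.ag h.2.2.1)

theorem ord_q1 : orderOf (mk q1) = 3 := by
  have h := c_q1
  simp only [Bool.and_eq_true] at h
  exact orderOf_eq_prime (eq_one_of_isId (rq1.pow 3) h.2.1) (ne_one_of rq1.ag h.2.2.1)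

theorem three_conj {x y : T} (hx : orderOf x = 3) (hy : orderOf y = 3) : ∃ g : T, g⁻¹ * x * g = y := by
  obtain ⟨g, hg⟩ := isConj_iff.1 (three hx hy)
  exact ⟨g⁻¹, by rw [inv_inv, hg]⟩

theorem card_le_S {H : Subgroup T} {L : List ℕ} (h : ∀ x ∈ H, x ∈ MA.S L) : Nat.card H ≤ L.length := by
  rw [← SetLike.coe_sort_coe, Nat.card_coe_set_eq]
  exact ncard_le_length (M := MA) h

theorem cent2 {x : T} (hx1 : x ≠ 1) {k : ℕ} (hk : x ^ 2 ^ k = 1) :
    Nat.card (centralizer ({x} : Set T)) ≤ 384 := by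
  obtain ⟨j, hj⟩ := exists_pow_order Nat.prime_two hk hx1
  obtain ⟨g, hg⟩ := inv_conj (u := x ^ j) (by rw [← pow_two, ← hj, pow_orderOf_eq_one])
    (fun e => by rw [e, orderOf_one] at hj; omega)
  refine (card_le_of_le (cent_le_pow x j)).trans ?_
  rw [← card_centralizer_conj g, hg, ← c_len0]
  exact card_le_S fun y hy => memC0 (mem_centralizer_singleton_iff.1 hy)

theorem cent4 {x : T} (hx2 : x * x ≠ 1) {k : ℕ} (hk : x ^ 2 ^ k = 1) :
    Nat.card (centralizer ({x} : Set T)) ≤ 32 := by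
  have hx1 : x ≠ 1 := by rintro rfl; exact hx2 (one_mul 1)
  obtain ⟨j, hj⟩ := exists_pow_order Nat.prime_two hk hx1
  obtain ⟨g, hg⟩ := inv_conj (u := x ^ j) (by rw [← pow_two, ← hj, pow_orderOf_eq_one])
    (fun e => by rw [e, orderOf_one] at hj; omega)
  rw [conj_pow'] at hg
  rw [← card_centralizer_conj g]
  have hy2 : (g⁻¹ * x * g) ^ 2 ≠ 1 := fun e => hx2 (by
    rw [← conj_pow', pow_two] at e
    simpa using conj_ne_one (a := g⁻¹) (x := x * x) |>.mtr (by simpa using e))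
  have hyk : (g⁻¹ * x * g) ^ 2 ^ k = 1 := by rw [← conj_pow', hk]; simp
  generalize g⁻¹ * x * g = y at *
  obtain ⟨P, hP, hy⟩ := memC0 (x := y) (by rw [← hg]; exact ((Commute.refl y).pow_right j).eq)
  have h1 := List.all_eq_true.1 c_four P hP
  rw [Bool.or_eq_true, Nat.ble_eq] at h1
  rcases h1 with h1 | h1
  · refine absurd (eq_one_of_pow (r := 2) (k := k) (m := 3) ?_ ?_ (by norm_num)) hy2
    · rw [← pow_mul, mul_comm, pow_mul, hyk, one_pow]
    · rw [← pow_mul]; exact eq_one_of_isId (hy.pow 6) h1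
  · refine le_trans (card_le_S fun c hc => ?_) h1
    obtain ⟨Q, hQ, hc'⟩ := memC0 (x := c) (by
      rw [← hg]; exact mem_centralizer_singleton_iff.1 (cent_le_pow y j hc))
    exact ⟨Q, List.mem_filter.2 ⟨hQ, com_of hc' hy (mem_centralizer_singleton_iff.1 hc)⟩, hc'⟩

theorem cent3 {x : T} (hx1 : x ≠ 1) {k : ℕ} (hk : x ^ 3 ^ k = 1) :
    Nat.card (centralizer ({x} : Set T)) ≤ 36 := by
  obtain ⟨j, hj⟩ := exists_pow_order Nat.prime_three hk hx1
  obtain ⟨g, hg⟩ := three_conj hj ord_q0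
  refine (card_le_of_le (cent_le_pow x j)).trans ?_
  rw [← card_centralizer_conj g, hg, ← c_lenq]
  exact card_le_S fun y hy => memCq0 (mem_centralizer_singleton_iff.1 hy)

theorem cube {x : T} (hk : x ^ 9 = 1) : x ^ 3 = 1 := by
  by_contra hne
  have h3 : orderOf (x ^ 3) = 3 := orderOf_eq_prime (by rw [← pow_mul, hk]) hne
  obtain ⟨g, hg⟩ := three_conj h3 ord_q0
  rw [conj_pow'] at hg
  obtain ⟨P, hP, hy⟩ := memCq0 (x := g⁻¹ * x * g) (by rw [← hg]; exact ((Commute.refl _).pow_right 3).eq)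
  have h1 := eq_one_of_isId (hy.pow 6) (List.all_eq_true.1 c_six P hP)
  rw [← conj_pow'] at h1
  have h2 : x ^ 6 = 1 := by simpa using conj_ne_one (a := g⁻¹) (x := x ^ 6) |>.mtr (by simpa using h1)
  apply hne
  rw [show 9 = 6 + 3 from rfl, pow_add, h2, one_mul] at hk
  exact hk

theorem fix2 {u : T} (h2 : u * u = 1) (h1 : u ≠ 1) : MA.nfix u ≤ 8 := by
  obtain ⟨g, hg⟩ := inv_conj h2 h1
  refine (nfix_le (h := mk z0) (t := g⁻¹) (by rw [inv_inv, hg]; exact mem_zpowers _)).trans ?_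
  rw [nfix_rep rz]; exact c_fix.1.le

/-! ### normalised sets -/

theorem badZ {u : T} (h2 : u * u = 1) (h1 : u ≠ 1) : Bad ({u} : Set T) := by
  obtain ⟨g, hg⟩ := inv_conj h2 h1
  refine (bad_of_triv complete c_Z (RL (by decide +kernel)) ⟨_, R (by decide +kernel)⟩).of_conj g⁻¹
    fun x => ?_
  rw [S_cons _ _ rz, S_nil, ← hg]
  simp only [Set.mem_insert_iff, Set.mem_empty_iff_false, or_false, inv_inv, Set.mem_singleton_iff]
  constructor
  · rintro rfl; group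
  · rintro rfl; group

theorem badV0 : Bad (MA.S V0) := by
  intro A B h hA
  have hL : ∀ P ∈ V0, ∃ g, MA.Rep P g := RL (by decide +kernel)
  have hc := c_V0
  rw [Bool.and_eq_true] at hc
  have ra : MA.Rep xVa (mk xVa) := R (by decide +kernel)
  have rb : MA.Rep xVb (mk xVb) := R (by decide +kernel)
  have key : ∀ {L' ps : List ℕ} {t c c' y : ℕ}, chk2 papp 24 chain V0 L' ps t c c'
      (fun w => isId w || agr papp 24 w y) = true → M22.el t oks = true → ∀ x ∈ A,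
      (mk t)⁻¹ * x * mk t ∈ A → x ∉ B → MA.Rep y x := by
    intro L' ps t c c' y hc ht x hx hxt hxB
    obtain ⟨w, hw, hQ⟩ := run2 complete hc hL (R ht) (hA x hx) (hA _ hxt)
    rw [Bool.or_eq_true] at hQ
    rcases hQ with hQ | hQ
    · exact absurd (eq_one_of_isId hw hQ ▸ B.one_mem) hxB
    · exact rep_of_agr hw hQ
  rcases two_or_odd h with h2 | ⟨r, hr, hr2, hd⟩
  · obtain ⟨a, ha, hat, haB⟩ := h.pair.exists_not_mem (mk rV0at)
    obtain ⟨b, hb, hbt, hbB⟩ := h.pair.exists_not_mem (mk rV0bt)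
    obtain ⟨c, hc', hct, hcB⟩ := h.pair.exists_not_mem (mk rV0ct)
    have e1 := key c_V0a (by decide +kernel) a ha hat haB
    have e2 := key c_V0b (by decide +kernel) b hb hbt hbB
    have e3 := key c_V0c (by decide +kernel) c hc' hct hcB
    exact hcB (e3.eq (rep_of_agr (e1.ag2 e2) hc.1) ▸ mul_mem_of_two h2 ha hb haB hbB)
  · obtain ⟨a, ha, hat, haB, -, k, hk⟩ := h.pair.exists_pElem hr hd (mk rV0at)
    have e1 := key c_V0a (by decide +kernel) a ha hat haB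
    have e2 : a ^ 2 = 1 := eq_one_of_isId (e1.pow 2) hc.2
    exact haB (eq_one_of_pow hk e2 ((Nat.coprime_primes hr Nat.prime_two).2 hr2) ▸ B.one_mem)

theorem badV3 : Bad (MA.S V3) := by
  intro A B h hA
  have hL : ∀ P ∈ V3, ∃ g, MA.Rep P g := RL (by decide +kernel)
  rcases two_or_odd h with h2 | ⟨r, hr, hr2, hd⟩
  · obtain ⟨a, ha, hat, haB, -, k, hk⟩ := h.pair.exists_pElem Nat.prime_two (h2 ▸ dvd_rfl) (mk rV3bt)
    obtain ⟨w, hw, hQ⟩ := run2 complete c_V3b hL (R (by decide +kernel)) (hA a ha) (hA _ hat)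
    have e := eq_one_of_isId ((hw.append hw).append hw) hQ
    exact haB (eq_one_of_pow (m := 3) hk (by rw [← e, pow_three']) (by norm_num) ▸ B.one_mem)
  · obtain ⟨a, ha, hat, haB, -, k, hk⟩ := h.pair.exists_pElem hr hd (mk rV3at)
    obtain ⟨w, hw, hQ⟩ := run2 complete c_V3a hL (R (by decide +kernel)) (hA a ha) (hA _ hat)
    have e := eq_one_of_isId (hw.append hw) hQ
    exact haB (eq_one_of_pow (m := 2) hk (by rw [← e, pow_two])
      ((Nat.coprime_primes hr Nat.prime_two).2 hr2) ▸ B.one_mem)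

theorem badVs {k : ℕ} (hk : k < 4) : Bad (MA.S (Vs.getD k [])) := by
  interval_cases k
  · exact badV0
  · exact bad_of_triv complete c_V1 (RL (by decide +kernel)) ⟨_, R (by decide +kernel)⟩
  · exact bad_of_triv complete c_V2 (RL (by decide +kernel)) ⟨_, R (by decide +kernel)⟩
  · exact badV3

theorem badV {u v : T} (hu : u * u = 1) (hv : v * v = 1) (hu1 : u ≠ 1) (hv1 : v ≠ 1) (huv : v ≠ u)
    (hc : v * u = u * v) : Bad ({u, v, u * v} : Set T) := by
  obtain ⟨g, hg⟩ := inv_conj hu hu1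
  have key : ∀ v : T, v * v = 1 → v ≠ 1 → v ≠ mk z0 → v * mk z0 = mk z0 * v →
      Bad ({mk z0, v, mk z0 * v} : Set T) := by
    intro v hv hv1 hvz hc
    obtain ⟨P, hP, hr⟩ := memC0 hc
    have h1 := List.all_eq_true.1 c_tab P hP
    rw [isId_of (hr.ag2 hr) hv] at h1
    simp only [Bool.not_true, Bool.false_or, Bool.or_eq_true, Nat.beq_eq, List.any_eq_true] at h1
    rcases h1 with h1 | rfl | ⟨e, he, rfl⟩
    · exact absurd (eq_one_of_isId hr.ag h1) hv1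
    · exact absurd (hr.eq rz) hvz
    have h2 := List.all_eq_true.1 c_tab2 e he
    simp only [Bool.and_eq_true, Nat.blt_eq, List.all_eq_true] at h2
    obtain ⟨h3, h4, h5, h6, h7, h8⟩ := h2
    have r3 := rep_of_agr (rz.ag2 hr) h4
    have hS : MA.S [z0, e.1, e.2.1] = {mk z0, v, mk z0 * v} := by
      rw [S_cons _ _ rz, S_cons _ _ hr, S_cons _ _ r3, S_nil]; simp
    refine (badVs h6).of_conj (mk e.2.2.1) fun x => ?_
    rw [← hS, ← mem_S_conj (rep_mk h3) h5 (by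
      intro Q hQ
      simp only [List.mem_cons, List.not_mem_nil, or_false] at hQ
      rcases hQ with rfl | rfl | rfl
      exacts [⟨_, rz⟩, ⟨_, hr⟩, ⟨_, r3⟩])]
    exact ⟨fun ⟨Q, hQ, h⟩ => ⟨Q, el_mem (h8 Q hQ), h⟩, fun ⟨Q, hQ, h⟩ => ⟨Q, el_mem (h7 Q hQ), h⟩⟩
  refine (key (g⁻¹ * v * g) ?_ ?_ ?_ ?_).of_conj g⁻¹ fun x => ?_
  · calc _ = g⁻¹ * (v * v) * g := by group
      _ = 1 := by rw [hv]; simp
  · simpa using conj_ne_one (a := g⁻¹) hv1
  · rw [← hg]; intro e; exact huv (by simpa using e)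
  · rw [← hg]
    calc _ = g⁻¹ * (v * u) * g := by group
      _ = _ := by rw [hc]; group
  · rw [← hg]
    have : ∀ y : T, x = g⁻¹ * y * g ↔ g * x * g⁻¹ = y := fun y =>
      ⟨fun e => by rw [e]; group, fun e => by rw [← e]; group⟩
    have e : g⁻¹ * u * g * (g⁻¹ * v * g) = g⁻¹ * (u * v) * g := by group
    simp only [Set.mem_insert_iff, Set.mem_singleton_iff, inv_inv, e, this]

theorem bad_diff_conj {N : Subgroup T} (g : T)
    (h : Bad (((N.map (MulAut.conj g).toMonoidHom : Subgroup T) : Set T) \ {1})) :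
    Bad ((N : Set T) \ {1}) := by
  refine h.of_conj g fun x => ?_
  simp only [Set.mem_sdiff, SetLike.mem_coe, mem_map_conj, Set.mem_singleton_iff]
  refine and_congr_right fun _ => not_congr ⟨fun e => by rw [e]; simp, fun e => ?_⟩
  simpa using conj_ne_one (a := g⁻¹) (x := x) |>.mtr (by simpa using e)

theorem bad3 {N : Subgroup T} (hN : Nat.card N = 3) : Bad ((N : Set T) \ {1}) := by
  obtain ⟨q, hq, ho, -, -⟩ := exists_sub (S := N) Nat.prime_three (by rw [hN])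
  obtain ⟨g, hg⟩ := three_conj ord_q0 ho
  refine bad_diff_conj g ?_
  have hm : mk q0 ∈ N.map (MulAut.conj g).toMonoidHom := mem_map_conj.2 (hg ▸ hq)
  have hc := c_q0
  simp only [Bool.and_eq_true] at hc
  have r2 := rep_of_agr (rq0.ag2 rq0) hc.1
  rw [← S_eq (M := MA) (X := ((N.map (MulAut.conj g).toMonoidHom : Subgroup T) : Set T) \ {1})
    hc.2.2.2.2 ?_ ?_]
  · exact bad_of_triv complete c_3 (RL (by decide +kernel)) ⟨_, R (by decide +kernel)⟩
  · intro P hP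
    simp only [List.mem_cons, List.not_mem_nil, or_false] at hP
    rcases hP with rfl | rfl
    · exact ⟨_, ⟨hm, ne_one_of rq0.ag hc.2.2.1⟩, rq0⟩
    · exact ⟨_, ⟨mul_mem hm hm, ne_one_of r2.ag hc.2.2.2.1⟩, r2⟩
  · have := ncard_diff_one (N.map (MulAut.conj g).toMonoidHom)
    rw [card_map_conj, hN] at this
    simp only [List.length_cons, List.length_nil]; omega

theorem comm9 {G : Type*} [Group G] {Q : Subgroup G} (hQ : Nat.card Q = 9) :
    ∀ a ∈ Q, ∀ b ∈ Q, a * b = b * a := fun a ha b hb => by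
  haveI : Fact (Nat.Prime 3) := ⟨Nat.prime_three⟩
  exact congrArg Subtype.val ((IsPGroup.isMulCommutative_of_card_eq_prime_sq (p := 3)
    (G := Q) hQ).is_comm.comm ⟨a, ha⟩ ⟨b, hb⟩)

theorem cube_of_mem {Q : Subgroup T} (hQ : Nat.card Q = 9) {a : T} (ha : a ∈ Q) : a ^ 3 = 1 :=
  cube (orderOf_dvd_iff_pow_eq_one.1 (hQ ▸ orderOf_dvd_natCard _ ha))

/-- A subgroup of order nine through `q1`. -/
theorem q9 {Q : Subgroup T} (hQ : Nat.card Q = 9) (h1 : mk q1 ∈ Q) :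
    (∀ z ∈ MA.S V0, ∀ z' ∈ MA.S V0, ∃ a ∈ Q, a * z * a⁻¹ = z') ∧
      ∃ v, (v = 1 ∨ v ∈ MA.S V0) ∧ v⁻¹ * mk q1 * v = mk q1 ∧ v⁻¹ * mk q2 * v ∈ Q := by
  have hc := c_q1
  simp only [Bool.and_eq_true] at hc
  have r2 := rep_of_agr (rq1.ag2 rq1) hc.1
  obtain ⟨a, ha, haS⟩ := Set.exists_mem_notMem_of_ncard_lt_ncard (s := MA.S [idT, q1, q1i])
    (t := (Q : Set T)) (by
      rw [← Nat.card_coe_set_eq (Q : Set T), SetLike.coe_sort_coe, hQ]
      exact lt_of_le_of_lt (ncard_le_length (M := MA) fun g hg => hg) (by simp))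
  obtain ⟨P, hP, hr⟩ := memCq (comm9 hQ a ha _ h1)
  have h2 := List.all_eq_true.1 c_q2 P hP
  rw [isId_of (w := [P, P, P]) (hr.pow 3) (cube_of_mem hQ ha)] at h2
  simp only [Bool.not_true, Bool.false_or, Bool.or_eq_true, Bool.and_eq_true, List.all_eq_true,
    List.any_eq_true, Nat.beq_eq] at h2
  rcases h2 with h2 | ⟨h2, v, hv, h3, c, hc', h4⟩
  · exact absurd ⟨P, el_mem h2, hr⟩ haS
  constructor
  · rintro z ⟨Z, hZ, rZ⟩ z' ⟨Z', hZ', rZ'⟩
    rcases h2 Z hZ Z' hZ' with rfl | h | h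
    · exact ⟨1, Q.one_mem, by rw [rZ.eq rZ']; simp⟩
    · exact ⟨a, ha, mul_inv_eq_iff_eq_mul.2 (eq_of_weq (hr.ag2 rZ) (rZ'.ag2 hr) h)⟩
    · refine ⟨a * a, Q.mul_mem ha ha, mul_inv_eq_iff_eq_mul.2 ?_⟩
      rw [← mul_assoc]
      exact eq_of_weq ((hr.ag2 hr).cons rZ) ((rZ'.ag2 hr).cons hr) h
  · obtain ⟨gv, hgv, rv⟩ : ∃ gv : T, (gv = 1 ∨ gv ∈ MA.S V0) ∧ MA.Rep v gv := by
      rcases List.mem_cons.1 hv with rfl | hv
      · exact ⟨1, Or.inl rfl, rid⟩
      · obtain ⟨g, hg⟩ := RL (L := V0) (by decide +kernel) v hv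
        exact ⟨g, Or.inr ⟨v, hv, hg⟩, hg⟩
    obtain ⟨gc, hgc, rc⟩ : ∃ gc ∈ Q, MA.Rep c gc := by
      simp only [List.mem_cons, List.not_mem_nil, or_false] at hc'
      rcases hc' with rfl | rfl | rfl
      exacts [⟨1, Q.one_mem, rid⟩, ⟨_, h1, rq1⟩, ⟨_, Q.mul_mem h1 h1, r2⟩]
    refine ⟨gv, hgv, by rw [mul_assoc, ← comm_of rv rq1 h3, inv_mul_cancel_left], ?_⟩
    rcases h4 with h | h
    · rw [mul_assoc, eq_of_weq (rq2.ag2 rv) ((rv.ag2 rc).cons hr) h, mul_assoc, inv_mul_cancel_left]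
      exact Q.mul_mem hgc ha
    · rw [mul_assoc, eq_of_weq (rq2.ag2 rv) (((rv.ag2 rc).cons hr).cons hr) h, mul_assoc, mul_assoc,
        inv_mul_cancel_left]
      exact Q.mul_mem hgc (Q.mul_mem ha ha)

theorem LQ_mem {H : Subgroup T} (h1 : mk q1 ∈ H) (h2 : mk q2 ∈ H) :
    ∀ P ∈ LQ, ∃ g ∈ (H : Set T) \ {1}, MA.Rep P g := by
  intro P hP
  have hc := c_Q
  simp only [Bool.and_eq_true, List.all_eq_true, List.any_eq_true] at hc
  obtain ⟨h3, w, hw, h4⟩ := hc.1 P hP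
  obtain ⟨g, hg, hwg⟩ := ag_mem (M := MA) (H := H) w fun u hu => by
    have : u = q1 ∨ u = q2 := by
      simp only [List.mem_cons, List.not_mem_nil, or_false] at hw
      rcases hw with rfl | rfl | rfl | rfl | rfl | rfl | rfl | rfl <;> simp at hu <;> tauto
    rcases this with rfl | rfl
    exacts [⟨_, h1, rq1⟩, ⟨_, h2, rq2⟩]
  have := rep_of_agr hwg h4
  exact ⟨g, ⟨hg, ne_one_of this.ag h3⟩, this⟩

theorem bad9 {N : Subgroup T} (hN : Nat.card N = 9) : Bad ((N : Set T) \ {1}) := by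
  obtain ⟨q, hq, ho, -, -⟩ := exists_sub (S := N) Nat.prime_three (by rw [hN]; norm_num)
  obtain ⟨g, hg⟩ := three_conj ord_q1 ho
  refine bad_diff_conj g ?_
  have hm : mk q1 ∈ N.map (MulAut.conj g).toMonoidHom := mem_map_conj.2 (hg ▸ hq)
  have hN' : Nat.card (N.map (MulAut.conj g).toMonoidHom) = 9 := by rw [card_map_conj, hN]
  generalize N.map (MulAut.conj g).toMonoidHom = N' at hm hN'
  obtain ⟨-, v, -, hv1, hv2⟩ := q9 hN' hm
  refine bad_diff_conj v ?_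
  have hc := c_Q
  simp only [Bool.and_eq_true, Nat.beq_eq] at hc
  rw [← S_eq (M := MA) hc.2.1 (LQ_mem (mem_map_conj.2 (hv1.symm ▸ hm)) (mem_map_conj.2 hv2)) ?_]
  · exact bad_of_triv complete c_9 (RL (by decide +kernel)) ⟨_, R (by decide +kernel)⟩
  · have := ncard_diff_one (N'.map (MulAut.conj v).toMonoidHom)
    rw [card_map_conj, hN'] at this
    omega

variable {A B N : Subgroup T}

/-- The class of size nine. -/
theorem nine_case (h : IsMaxPair A B) (hNB : N ≤ B) (hAN : A ≤ normalizer (N : Set T))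
    (hN : ElemAb 2 N) {Q : Subgroup T} (hQA : Q ≤ A) (hQ : Nat.card Q = 9) (h1 : mk q1 ∈ Q) {z : T}
    (hz : z ∈ N) (hz1 : z ≠ 1) (hzc : z * mk q1 = mk q1 * z) {O : Set T} (hO : O.ncard = 9)
    (hON : ∀ x ∈ O, x ∈ N ∧ x ≠ 1) (hOA : ∀ a ∈ A, ∀ x ∈ O, a * x * a⁻¹ ∈ O) : False := by
  have hsq : ∀ x ∈ N, x * x = 1 := fun x hx => by rw [← pow_two]; exact hN.2.2 x hx
  have hNA := hNB.trans h.pair.le
  have hzV : z ∈ MA.S V0 := by
    obtain ⟨P, hP, hr⟩ := memCq hzc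
    have h2 := List.all_eq_true.1 c_qV P hP
    rw [isId_of (hr.ag2 hr) (hsq z hz)] at h2
    simp only [Bool.not_true, Bool.false_or, Bool.or_eq_true] at h2
    exact ⟨P, el_mem (h2.resolve_left fun e => hz1 (eq_one_of_isId hr.ag e)), hr⟩
  obtain ⟨h2, v, hv, hv0, hv2⟩ := q9 hQ h1
  have hVN : ∀ y ∈ MA.S V0, y ∈ N := fun y hy => by
    obtain ⟨a, ha, rfl⟩ := h2 z hzV y hy
    exact conj_mem_of_le hAN (hQA ha) hz
  have hvA : v ∈ A := by
    rcases hv with rfl | hv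
    exacts [A.one_mem, hNA (hVN v hv)]
  have hq1 := hQA h1
  have hq2 : mk q2 ∈ A := by
    have := A.mul_mem (A.mul_mem hvA (hQA hv2)) (A.inv_mem hvA)
    simpa [mul_assoc] using this
  have hz0 : mk z0 ∈ N := hVN _ ⟨z0, by rw [c_V]; simp, rz⟩
  have hv1 : mk v1 ∈ N := hVN _ ⟨v1, by rw [c_V]; simp, rv1⟩
  have hNE : ∀ n ∈ N, n ≠ 1 → n ∈ MA.S LE := fun n hn hn1 => by
    obtain ⟨P, hP, hr⟩ := memC0 (hN.2.1 n hn _ hz0)
    have h3 := List.all_eq_true.1 c_E P hP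
    rw [isId_of (hr.ag2 hr) (hsq n hn), com_of hr rv1 (hN.2.1 n hn _ hv1)] at h3
    simp only [Bool.not_true, Bool.false_or, Bool.or_eq_true] at h3
    exact ⟨P, el_mem (h3.resolve_left fun e => hn1 (eq_one_of_isId hr.ag e)), hr⟩
  have hc := c_L9
  simp only [Bool.and_eq_true, List.all_eq_true, List.any_eq_true, Bool.or_eq_true, Nat.beq_eq] at hc
  obtain ⟨c1, c2, c3, c4, c5, c6, c7⟩ := hc
  have hLE : ∀ P ∈ LE, ∃ g, MA.Rep P g := RL (by decide +kernel)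
  have hL9 : ∀ P ∈ L9, ∃ g, MA.Rep P g := fun P hP => hLE P (el_mem (c5 P hP))
  have hLQ : ∀ P ∈ idT :: LQ, ∃ g ∈ A, g ^ 3 = 1 ∧ MA.Rep P g := by
    intro P hP
    rcases List.mem_cons.1 hP with rfl | hP
    · exact ⟨1, A.one_mem, one_pow 3, rid⟩
    · obtain ⟨g, hg, hr⟩ := LQ_mem (H := Q.map (MulAut.conj v).toMonoidHom)
        (mem_map_conj.2 (by rw [hv0]; exact h1)) (mem_map_conj.2 hv2) P hP
      obtain ⟨g', hg', hr'⟩ := LQ_mem hq1 hq2 P hP
      exact ⟨g', hg'.1, hr.eq hr' ▸ cube_of_mem (by rw [card_map_conj, hQ]) hg.1, hr'⟩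
  have hS : MA.S L9 = O := by
    obtain ⟨o, ho, hoS⟩ := Set.exists_mem_notMem_of_ncard_lt_ncard (s := MA.S L6) (t := O) (by
      rw [hO]; exact lt_of_le_of_lt (ncard_le_length (M := MA) fun g hg => hg) (by omega))
    obtain ⟨P, hP, hr⟩ := hNE o (hON o ho).1 (hON o ho).2
    have hP9 := el_mem ((c1 P hP).resolve_right fun e => hoS ⟨P, el_mem e, hr⟩)
    refine S_eq c4 (fun P' hP' => ?_) (by omega)
    obtain ⟨q, hq, e⟩ := c6 P hP9 P' hP'
    obtain ⟨a, ha, -, ra⟩ := hLQ q hq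
    obtain ⟨g, rg⟩ := hL9 P' hP'
    have := eq_of_weq (ra.ag2 hr) (rg.ag2 ra) e
    exact ⟨g, mul_inv_eq_iff_eq_mul.2 this ▸ hOA a ha o ho, rg⟩
  have hnrm : ∀ a ∈ A, Nrm (MA.S L9) a := fun a ha => hS ▸ nrm_of hOA ha
  have hEB : ∀ P ∈ idT :: LE, ∃ g ∈ B, MA.Rep P g := by
    intro P hP
    have k9 : ∀ P ∈ L9, ∃ g ∈ B, MA.Rep P g := fun P hP => by
      obtain ⟨g, rg⟩ := hL9 P hP
      exact ⟨g, hNB (hON g (hS ▸ ⟨P, hP, rg⟩)).1, rg⟩
    rcases List.mem_cons.1 hP with rfl | hP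
    · exact ⟨1, B.one_mem, rid⟩
    rcases c7 P hP with e | ⟨a, ha, b, hb, e⟩
    · exact k9 P (el_mem e)
    · obtain ⟨ga, hga, ra⟩ := k9 a ha
      obtain ⟨gb, hgb, rb⟩ := k9 b hb
      exact ⟨_, B.mul_mem hgb hga, rep_of_agr (rb.ag2 ra) e⟩
  have ry : MA.Rep yM (mk yM) := R (by decide +kernel)
  have hK : ∀ x ∈ A, (mk rMt)⁻¹ * x * mk rMt ∈ A → x ∈ zpowers (mk yM) := by
    intro x hx hxt
    obtain ⟨w, hw, hQ⟩ := run2 complete c_M hL9 (R (by decide +kernel)) (hnrm x hx) (hnrm _ hxt)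
    simp only [Bool.or_eq_true] at hQ
    rcases hQ with e | e | e | e
    · rw [eq_one_of_isId hw e]; exact one_mem _
    · rw [eq_of_weq hw ry.ag e]; exact mem_zpowers _
    · rw [eq_of_weq hw (ry.pow 2) e]; exact pow_mem (mem_zpowers _) _
    · rw [eq_of_weq hw (ry.pow 3) e]; exact pow_mem (mem_zpowers _) _
  rcases two_or_odd h with h2 | ⟨r, hr, hr2, hd⟩
  · by_cases hV : ∀ a ∈ A, ∀ s ∈ MA.S V0, a * s * a⁻¹ ∈ MA.S V0
    · exact badV0 A B h fun a ha => nrm_of hV ha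
    push Not at hV
    obtain ⟨u, hu, hu'⟩ := hV
    obtain ⟨w, hw, hQ⟩ := run1 complete c_u hL9 (hnrm u hu)
    simp only [Bool.or_eq_true, List.any_eq_true, Bool.and_eq_true] at hQ
    rcases hQ with e | ⟨q, hq, -, e, he, hQ⟩
    · obtain ⟨s, hs, hs'⟩ := hu'
      exact hs' (conj_mem_of_nzF (RL (by decide +kernel)) e hw s hs)
    obtain ⟨gq, hgq, hq3, rq⟩ := hLQ q hq
    obtain ⟨ge, hge, re⟩ := hEB e he
    have hqB : gq ∈ B := mem_of_coprime h.pair hgq (by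
      rw [h2]; exact Nat.Coprime.coprime_dvd_right (orderOf_dvd_of_pow_eq_one hq3) (by norm_num))
    have e1 := eq_of_weq (hw.append hw) ((ry.ag2 re).cons rq) hQ
    have hy : mk yM ∈ B := by
      have := B.mul_mem (B.mul_mem (e1 ▸ sq_mem_of_two h2 hu) (B.inv_mem hqB)) (B.inv_mem hge)
      simpa using this
    obtain ⟨x, hx, hxt, hxB⟩ := h.pair.exists_not_mem (mk rMt)
    exact hxB (zpowers_le.2 hy (hK x hx hxt))
  · obtain ⟨x, hx, hxt, hxB, -, k, hk⟩ := h.pair.exists_pElem hr hd (mk rMt)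
    obtain ⟨n, rfl⟩ := hK x hx hxt
    have e4 : mk yM ^ 4 = 1 := eq_one_of_isId (ry.pow 4) c_y
    refine hxB (eq_one_of_pow (m := 2 ^ 2) hk ?_
      (((Nat.coprime_primes hr Nat.prime_two).2 hr2).pow_right 2) ▸ B.one_mem)
    simp only
    rw [← zpow_natCast, ← zpow_mul, mul_comm, zpow_mul, zpow_natCast]
    rw [show 2 ^ 2 = 4 from rfl, e4, one_zpow]

/-- `N` an elementary abelian `2`-group, `A` a `{2,3}`-group. -/
theorem two_local (h : IsMaxPair A B) (hA : Nat.card A ∣ 1152) (hNB : N ≤ B) (hN0 : N ≠ ⊥)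
    (hAN : A ≤ normalizer (N : Set T)) (hN : ElemAb 2 N) : False := by
  have hsq : ∀ x ∈ N, x * x = 1 := fun x hx => by rw [← pow_two]; exact hN.2.2 x hx
  obtain ⟨z, hz, hz1⟩ := exists_ne_one hN0
  obtain ⟨n, hn, hn1, hodd, hd⟩ := exists_cls Nat.prime_two hAN
    (ord2 (hsq z hz) hz1 ▸ orderOf_dvd_natCard _ hz)
  have hO : ∀ x ∈ cls A n, x ∈ N ∧ x ≠ 1 := by
    rintro _ ⟨a, ha, rfl⟩; exact ⟨conj_mem_of_le hAN ha hn, conj_ne_one hn1⟩
  have h9 : (cls A n).ncard ∣ 3 ^ 2 :=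
    Nat.Coprime.dvd_of_dvd_mul_left (m := 2 ^ 7)
      (((Nat.Prime.coprime_iff_not_dvd Nat.prime_two).2 hodd).symm.pow_right 7) (hd.trans hA)
  obtain ⟨k, hk, he⟩ := (Nat.dvd_prime_pow Nat.prime_three).1 h9
  interval_cases k
  · obtain ⟨m, hm⟩ := Set.ncard_eq_one.1 he
    have hnm : n = m := by have := mem_cls_self A n; rwa [hm] at this
    subst hnm
    exact badZ (hsq n hn) hn1 A B h fun a ha => nrm_of (fun a ha s hs => by
      rw [← hm] at hs ⊢; exact conj_mem_cls ha hs) ha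
  · obtain ⟨u, v, h1, h2, h3, h4, h5, h6, h7⟩ := four_of_three (A := A) he
      (fun x hx y hy => hN.2.1 x (hO x hx).1 y (hO y hy).1) (fun x hx => hsq x (hO x hx).1)
      fun a ha x hx => conj_mem_cls ha hx
    exact badV h1 h2 h3 h4 h5 h6 A B h fun a ha => nrm_of h7 ha
  · haveI : Fact (Nat.Prime 3) := ⟨Nat.prime_three⟩
    obtain ⟨Q', hQ'⟩ := Sylow.exists_subgroup_card_pow_prime (G := A) 3 (he ▸ hd)
    have hQ : Nat.card (Q'.map A.subtype) = 9 := by rw [card_map_of_injective A.subtype_injective, hQ']; rfl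
    have hQA : Q'.map A.subtype ≤ A := map_subtype_le _
    generalize Q'.map A.subtype = Q at hQ hQA
    obtain ⟨a, ha, ha1, w, hw, hw1, hc⟩ := H456.exists_fixed_of_not_cyclic (MulAut.conj (G := T)) N
      hN.2.1 hN0 Q (comm9 hQ) (fun hcyc => by
        obtain ⟨g, hg⟩ := hcyc.exists_ofOrder_eq_natCard
        have := orderOf_dvd_of_pow_eq_one (cube_of_mem hQ g.2)
        rw [orderOf_coe, hg, hQ] at this
        norm_num at this) fun a ha u hu => conj_mem_of_le hAN (hQA ha) hu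
    have hc' : a * w * a⁻¹ = w := hc
    obtain ⟨g, hg⟩ := three_conj ord_q1 (orderOf_eq_prime (cube_of_mem hQ ha) ha1)
    refine nine_case (h.conj g) (map_mono hNB) (normalizer_conj hAN g) (hN.conj g) (map_mono hQA)
      (by rw [card_map_conj, hQ]) (mem_map_conj.2 (hg ▸ ha)) (z := g * w * g⁻¹) ⟨w, hw, rfl⟩
      (conj_ne_one hw1) ?_ (O := (fun x => g * x * g⁻¹) '' cls A n) ?_ ?_ ?_
    · have e : mk q1 = g * a * g⁻¹ := by rw [← hg]; group
      rw [e, conj_mul, conj_mul, mul_inv_eq_iff_eq_mul.1 hc']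
    · exact (Set.ncard_image_of_injective _ (MulAut.conj g).injective).trans he
    · rintro _ ⟨x, hx, rfl⟩
      exact ⟨⟨x, (hO x hx).1, rfl⟩, conj_ne_one (hO x hx).2⟩
    · rintro _ ⟨b, hb, rfl⟩ _ ⟨x, hx, rfl⟩
      exact ⟨_, conj_mem_cls hb hx, by simp [mul_assoc]⟩

end Cfsg.Agent.SP.NegS.M22
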