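import Cfsg.Agent.SP.Neg.Gen
import Cfsg.Agent.Lib.MinNormal

/-! # S5755, negative rows: local analysis tools

Minimal normal subgroups, the Frattini argument, Sylow counts and Burnside's transfer theorem in
ambient form, and some elementary counting lemmas. -/

set_option autoImplicit false
set_option linter.style.haveILetI false

namespace Cfsg.Agent.SP.NegS

open Subgroup Cfsg.Agent.SP

variable {T : Type*} [Group T]

theorem conj_mem_of_le {A N : Subgroup T} (h : A ≤ normalizer (N : Set T)) {a n : T} (ha : a ∈ A)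
    (hn : n ∈ N) : a * n * a⁻¹ ∈ N := (mem_normalizer_iff.1 (h ha) n).1 hn

theorem conj_mem_of_le' {A N : Subgroup T} (h : A ≤ normalizer (N : Set T)) {a n : T} (ha : a ∈ A)
    (hn : n ∈ N) : a⁻¹ * n * a ∈ N := by
  simpa using conj_mem_of_le h (A.inv_mem ha) hn

/-- In a simple group `B ≠ 1`. -/
theorem B_ne_bot [IsSimpleGroup T] {A B : Subgroup T} (h : IsPair A B) : B ≠ ⊥ := by
  rintro rfl
  have hn : A.Normal := ⟨fun a ha t => by
    obtain ⟨b, hb, d, -, hdt, e⟩ := h.exists_mul t⁻¹ ha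
    rw [mem_bot] at hb
    subst hb
    rw [one_mul] at e
    subst e
    simpa using hdt⟩
  rcases hn.eq_bot_or_eq_top with e | e
  · exact h.ne_bot e
  · exact h.1 e

theorem le_normalizer_B {A B : Subgroup T} (h : IsPair A B) : A ≤ normalizer (B : Set T) :=
  le_normalizer_iff.2 fun _ ha _ hb => h.conj_mem ha hb

/-- Elementary abelian alternative. -/
def ElemAb (p : ℕ) (N : Subgroup T) : Prop :=
  p.Prime ∧ (∀ x ∈ N, ∀ y ∈ N, x * y = y * x) ∧ ∀ x ∈ N, x ^ p = 1

/-- A minimal normal subgroup of `A` inside `B`. -/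
theorem exists_minN [Finite T] {A B : Subgroup T} (hBA : B ≤ A)
    (hn : A ≤ normalizer (B : Set T)) (hB : B ≠ ⊥) :
    ∃ N : Subgroup T, N ≤ B ∧ N ≠ ⊥ ∧ A ≤ normalizer (N : Set T) ∧
      (∀ M : Subgroup T, M ≤ N → A ≤ normalizer (M : Set T) → M = ⊥ ∨ M = N) ∧
      ((∃ p, ElemAb p N) ∨
        ∃ S : Subgroup T, S ≤ N ∧ IsSimpleGroup S ∧ (¬ ∀ a b : S, a * b = b * a) ∧
          (S = N ∨ ∃ S' : Subgroup T, S' ≤ N ∧ (∃ a ∈ A, S' = S.map (MulAut.conj a).toMonoidHom) ∧
            S ⊓ S' = ⊥ ∧ ∀ x ∈ S, ∀ y ∈ S', Commute x y)) := by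
  classical
  let X : Set (Subgroup T) := {N | N ≤ B ∧ N ≠ ⊥ ∧ A ≤ normalizer (N : Set T)}
  obtain ⟨N, hN⟩ := (Set.toFinite X).exists_minimal ⟨B, le_rfl, hB, hn⟩
  obtain ⟨hNB, hN0, hAN⟩ := hN.prop
  have hmin : ∀ M : Subgroup T, M ≤ N → A ≤ normalizer (M : Set T) → M = ⊥ ∨ M = N := by
    intro M hM hAM
    by_cases h0 : M = ⊥
    · exact Or.inl h0
    · exact Or.inr (le_antisymm hM (hN.le_of_le ⟨hM.trans hNB, h0, hAM⟩ hM))
  refine ⟨N, hNB, hN0, hAN, hmin, ?_⟩
  have hNA : N ≤ A := hNB.trans hBA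
  haveI : (N.subgroupOf A).Normal := normal_subgroupOf_of_le_normalizer hAN
  have hinj : Function.Injective A.subtype := A.subtype_injective
  have h0 : N.subgroupOf A ≠ ⊥ := by
    intro e
    apply hN0
    rw [← map_subgroupOf_eq_of_le hNA, e, Subgroup.map_bot]
  have hmin' : ∀ M : Subgroup A, M.Normal → M ≤ N.subgroupOf A → M = ⊥ ∨ M = N.subgroupOf A := by
    intro M hM hle
    have h1 : M.map A.subtype ≤ N := by
      rw [← map_subgroupOf_eq_of_le hNA]; exact map_mono hle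
    have h2 : A ≤ normalizer ((M.map A.subtype : Subgroup T) : Set T) := by
      rw [le_normalizer_iff]
      rintro a ha _ ⟨m, hm, rfl⟩
      exact ⟨⟨a, ha⟩ * m * ⟨a, ha⟩⁻¹, hM.conj_mem m hm _, rfl⟩
    rcases hmin _ h1 h2 with e | e
    · left; rwa [Subgroup.map_eq_bot_iff_of_injective _ hinj] at e
    · right
      apply Subgroup.map_injective hinj
      rw [e, map_subgroupOf_eq_of_le hNA]
  obtain ⟨m, S, hm, hSN, hSs, -, hconj, hcomm, -, hind, hsup⟩ :=
    Cfsg.Agent.Lib.MinNormal.exists_internal_decomposition (N.subgroupOf A) h0 hmin'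
  let i0 : Fin m := ⟨0, hm⟩
  have hle : ∀ i, (S i).map A.subtype ≤ N := fun i => by
    rw [← map_subgroupOf_eq_of_le hNA]; exact map_mono (hSN i)
  let e : S i0 ≃* (S i0).map A.subtype := (S i0).equivMapOfInjective _ hinj
  by_cases hab : ∀ a b : S i0, a * b = b * a
  · left
    haveI := hSs i0
    letI : CommGroup (S i0) := { (inferInstance : Group (S i0)) with mul_comm := hab }
    have hp : (Nat.card (S i0)).Prime := IsSimpleGroup.prime_card
    have hS : ∀ i, (∀ x ∈ S i, x ^ Nat.card (S i0) = 1) ∧ ∀ x ∈ S i, ∀ y ∈ S i, x * y = y * x := by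
      intro i
      obtain ⟨g, hg⟩ := hconj i0 i
      rw [hg]
      constructor
      · rintro _ ⟨x, hx, rfl⟩
        rw [← map_pow]
        have : x ^ Nat.card (S i0) = 1 := by
          have := pow_card_eq_one' (G := S i0) (x := ⟨x, hx⟩)
          exact congrArg Subtype.val this
        rw [this, map_one]
      · rintro _ ⟨x, hx, rfl⟩ _ ⟨y, hy, rfl⟩
        rw [← map_mul, ← map_mul]
        congr 1
        exact congrArg Subtype.val (hab ⟨x, hx⟩ ⟨y, hy⟩)
    have hall : ∀ i j, ∀ x ∈ S i, ∀ y ∈ S j, x * y = y * x := by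
      intro i j x hx y hy
      by_cases hij : i = j
      · subst hij; exact (hS i).2 x hx y hy
      · exact (hcomm i j hij x hx y hy).eq
    have hc1 : ∀ j, ∀ y ∈ S j, ∀ x ∈ N.subgroupOf A, x * y = y * x := by
      intro j y hy x hx
      rw [← hsup] at hx
      induction hx using Subgroup.iSup_induction' with
      | hp i x hx => exact hall i j x hx y hy
      | h1 => simp
      | hmul a b _ _ ha hb => rw [mul_assoc, hb, ← mul_assoc, ha, mul_assoc]
    have hc2 : ∀ y ∈ N.subgroupOf A, ∀ x ∈ N.subgroupOf A, x * y = y * x := by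
      intro y hy x hx
      rw [← hsup] at hy
      induction hy using Subgroup.iSup_induction' with
      | hp j y hy => exact hc1 j y hy x hx
      | h1 => simp
      | hmul a b _ _ ha hb => rw [← mul_assoc, ha, mul_assoc, hb, mul_assoc]
    refine ⟨_, hp, fun x hx y hy => ?_, fun x hx => ?_⟩
    · exact congrArg Subtype.val (hc2 ⟨y, hNA hy⟩ hy ⟨x, hNA hx⟩ hx)
    · have key : ∀ y ∈ N.subgroupOf A, y ^ Nat.card (S i0) = 1 := by
        intro y hy
        have hy' := hy
        rw [← hsup] at hy'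
        induction hy' using Subgroup.iSup_induction' with
        | hp j y hyj => exact (hS j).1 y hyj
        | h1 => simp
        | hmul a b ha' hb' ha hb =>
          rw [hsup] at ha' hb'
          rw [(show Commute a b from hc2 b hb' a ha').mul_pow, ha ha', hb hb', one_mul]
      exact congrArg Subtype.val (key ⟨x, hNA hx⟩ hx)
  · right
    haveI := hSs i0
    refine ⟨(S i0).map A.subtype, hle i0, e.symm.isSimpleGroup_congr.2 (hSs i0), fun h => hab fun a b => ?_, ?_⟩
    · apply e.injective; rw [map_mul, map_mul]; exact h _ _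
    by_cases h1 : ∀ j, j = i0
    · left
      rw [← map_subgroupOf_eq_of_le hNA, ← hsup]
      congr 1
      exact le_antisymm (le_iSup S i0) (iSup_le fun j => by rw [h1 j])
    · right
      push Not at h1
      obtain ⟨j, hj⟩ := h1
      obtain ⟨g, hg⟩ := hconj i0 j
      refine ⟨(S j).map A.subtype, hle j, ⟨g, g.2, ?_⟩, ?_, ?_⟩
      · rw [hg, map_map, map_map]; rfl
      · rw [← Subgroup.map_inf _ _ _ hinj, (hind.pairwiseDisjoint hj.symm).eq_bot, Subgroup.map_bot]
      · rintro _ ⟨x, hx, rfl⟩ _ ⟨y, hy, rfl⟩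
        exact (hcomm i0 j hj.symm x hx y hy).map A.subtype

/-- Two commuting subgroups meeting trivially. -/
theorem card_mul_dvd [Finite T] {S S' N : Subgroup T} (hS : S ≤ N) (hS' : S' ≤ N) (hd : S ⊓ S' = ⊥)
    (hc : ∀ x ∈ S, ∀ y ∈ S', Commute x y) : Nat.card S * Nat.card S' ∣ Nat.card N := by
  let f : S × S' →* N := (MonoidHom.noncommCoprod S.subtype S'.subtype
    fun x y => hc x x.2 y y.2).codRestrict N fun x => N.mul_mem (hS x.1.2) (hS' x.2.2)
  rw [← Nat.card_prod]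
  refine card_dvd_of_injective f ((injective_iff_map_eq_one f).2 fun x hx => ?_)
  have h1 : (x.1 : T) * x.2 = 1 := congrArg Subtype.val hx
  have h2 : (x.1 : T) ∈ S ⊓ S' := ⟨x.1.2, by
    rw [eq_inv_of_mul_eq_one_left h1]; exact S'.inv_mem x.2.2⟩
  rw [hd, mem_bot] at h2
  rw [h2, one_mul] at h1
  exact Prod.ext (Subtype.ext h2) (Subtype.ext h1)

theorem card_map_conj (S : Subgroup T) (a : T) :
    Nat.card (S.map (MulAut.conj a).toMonoidHom) = Nat.card S :=
  card_map_of_injective (MulAut.conj a).injective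

/-- Index two, or an odd prime divides the index. -/
theorem two_or_odd [Finite T] {A B : Subgroup T} (h : IsMaxPair A B) :
    B.relIndex A = 2 ∨ ∃ r, r.Prime ∧ r ≠ 2 ∧ r ∣ B.relIndex A := by
  by_cases ho : ∃ r, r.Prime ∧ r ≠ 2 ∧ r ∣ B.relIndex A
  · exact Or.inr ho
  left
  push Not at ho
  haveI := h.pair.2.2.1
  haveI := h.isSimpleGroup
  have h0 : B.relIndex A ≠ 0 := Nat.card_pos.ne'
  have hk := Nat.eq_prime_pow_of_unique_prime_dvd (p := 2) h0 fun {d} hd hdv => by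
    by_contra hne; exact ho d hd hne hdv
  have hP : IsPGroup 2 (A ⧸ B.subgroupOf A) := IsPGroup.of_card (n := _) hk
  haveI : Nontrivial (center (A ⧸ B.subgroupOf A)) := hP.center_nontrivial
  have hc : center (A ⧸ B.subgroupOf A) = ⊤ :=
    ((inferInstance : (center (A ⧸ B.subgroupOf A)).Normal).eq_bot_or_eq_top).resolve_left
      ((Subgroup.nontrivial_iff_ne_bot _).1 inferInstance)
  letI : CommGroup (A ⧸ B.subgroupOf A) :=
    { (inferInstance : Group (A ⧸ B.subgroupOf A)) with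
      mul_comm := fun a b => (mem_center_iff.1 (hc ▸ mem_top b) a) }
  have hp : (B.relIndex A).Prime := IsSimpleGroup.prime_card (α := A ⧸ B.subgroupOf A)
  by_contra hne
  exact ho _ hp hne dvd_rfl

theorem card_mul_relIndex {A B : Subgroup T} (h : B ≤ A) :
    Nat.card B * B.relIndex A = Nat.card A := by
  rw [relIndex, ← Nat.card_congr (subgroupOfEquivOfLe h).toEquiv, card_mul_index]

theorem card_inf_mul_relIndex (A H : Subgroup T) :
    Nat.card (A ⊓ H : Subgroup T) * H.relIndex A = Nat.card A := by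
  rw [← inf_relIndex_left, card_mul_relIndex inf_le_left]

/-- A subset of `A` outside `B`. -/
theorem ncard_add_le [Finite T] {A B : Subgroup T} (hBA : B ≤ A) {Y : Set T}
    (hY : ∀ x ∈ Y, x ∈ A ∧ x ∉ B) : Y.ncard + Nat.card B ≤ Nat.card A := by
  rw [← SetLike.coe_sort_coe B, ← SetLike.coe_sort_coe A, Nat.card_coe_set_eq, Nat.card_coe_set_eq,
    ← Set.ncard_union_eq (Set.disjoint_left.2 fun x hx hb => (hY x hx).2 hb)]
  refine Set.ncard_le_ncard ?_
  rintro x (hx | hx)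
  · exact (hY x hx).1
  · exact hBA hx

theorem ncard_le_of_two [Finite T] {A B : Subgroup T} (hBA : B ≤ A) (h2 : B.relIndex A = 2)
    {Y : Set T} (hY : ∀ x ∈ Y, x ∈ A ∧ x ∉ B) : 2 * Y.ncard ≤ Nat.card A := by
  have h1 := ncard_add_le hBA hY
  have h3 := card_mul_relIndex hBA
  rw [h2] at h3
  omega

theorem mul_mem_of_two {A B : Subgroup T} (h2 : B.relIndex A = 2) {x y : T} (hx : x ∈ A)
    (hy : y ∈ A) (hxB : x ∉ B) (hyB : y ∉ B) : x * y ∈ B := by
  have := (mul_mem_iff_of_index_two (H := B.subgroupOf A) h2 (a := ⟨x, hx⟩) (b := ⟨y, hy⟩)).2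
    (by simp [mem_subgroupOf, hxB, hyB])
  exact this

/-- A subgroup `P ≤ S` of full `p`-part as a Sylow subgroup of `S`. -/
theorem exists_sylow [Finite T] {S P : Subgroup T} {p k : ℕ} [Fact p.Prime] (hPS : P ≤ S)
    (hP : Nat.card P = p ^ k) (hk : ¬ p ^ (k + 1) ∣ Nat.card S) :
    ∃ Q : Sylow p S, (Q : Subgroup S) = P.subgroupOf S := by
  have hc : Nat.card (P.subgroupOf S) = p ^ k := by
    rw [Nat.card_congr (subgroupOfEquivOfLe hPS).toEquiv, hP]
  refine ⟨(IsPGroup.of_card hc).toSylow fun hd => hk ?_, rfl⟩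
  rw [← (P.subgroupOf S).card_mul_index, hc, pow_succ]
  exact Nat.mul_dvd_mul_left _ hd

/-- Sylow's count in ambient form. -/
theorem sylow_count [Finite T] {S P : Subgroup T} {p k : ℕ} (hp : p.Prime) (hPS : P ≤ S)
    (hP : Nat.card P = p ^ k) (hk : ¬ p ^ (k + 1) ∣ Nat.card S) :
    ∃ n, n % p = 1 ∧ Nat.card (S ⊓ normalizer (P : Set T) : Subgroup T) * n = Nat.card S := by
  haveI := Fact.mk hp
  obtain ⟨Q, hQ⟩ := exists_sylow hPS hP hk
  refine ⟨_, ?_, card_inf_mul_relIndex S _⟩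
  have h1 := card_sylow_modEq_one p S
  rw [Q.card_eq_index_normalizer, ← Q.coe_coe, hQ, ← subgroupOf_normalizer_eq hPS] at h1
  have h2 : 1 % p = 1 := Nat.mod_eq_of_lt hp.one_lt
  exact Eq.trans h1 h2

/-- The Frattini argument in ambient form. -/
theorem frattini [Finite T] {A S P : Subgroup T} {p k : ℕ} (hp : p.Prime) (hPS : P ≤ S)
    (hAS : A ≤ normalizer (S : Set T)) (hP : Nat.card P = p ^ k)
    (hk : ¬ p ^ (k + 1) ∣ Nat.card S) {a : T} (ha : a ∈ A) :
    ∃ s ∈ S, s * a ∈ normalizer (P : Set T) := by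
  haveI := Fact.mk hp
  have hPa : P.map (MulAut.conj a).toMonoidHom ≤ S := by
    rintro _ ⟨x, hx, rfl⟩
    exact conj_mem_of_le hAS ha (hPS hx)
  obtain ⟨Q, hQ⟩ := exists_sylow hPS hP hk
  obtain ⟨Q', hQ'⟩ := exists_sylow hPa (by rw [card_map_conj, hP]) hk
  obtain ⟨s, hs⟩ := MulAction.exists_smul_eq S Q' Q
  refine ⟨s, s.2, mem_normalizer_fintype fun x hx => ?_⟩
  have h1 : (⟨a * x * a⁻¹, hPa ⟨x, hx, rfl⟩⟩ : S) ∈ Q' := by
    rw [← SetLike.mem_coe, ← Q'.coe_coe, hQ']
    exact ⟨x, hx, rfl⟩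
  have h2 : s * ⟨a * x * a⁻¹, hPa ⟨x, hx, rfl⟩⟩ * s⁻¹ ∈ s • Q' := by
    rw [Sylow.smul_def, ← SetLike.mem_coe, ← Sylow.coe_coe, Sylow.pointwise_smul_def]
    exact smul_mem_pointwise_smul _ _ _ h1
  rw [hs, ← SetLike.mem_coe, ← Q.coe_coe, hQ] at h2
  have h3 : (s : T) * (a * x * a⁻¹) * (s : T)⁻¹ ∈ P := h2
  have : (s : T) * a * x * ((s : T) * a)⁻¹ = (s : T) * (a * x * a⁻¹) * (s : T)⁻¹ := by group
  rw [SetLike.mem_coe, this]
  exact h3

/-- If `A = S (A ∩ H)` with `S ⊴ A`, then `|A ∩ H| = |S ∩ H| |A : S|`. -/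
theorem card_inf_eq [Finite T] {A S H : Subgroup T} (hSA : S ≤ A)
    (hAS : A ≤ normalizer (S : Set T)) (h : ∀ a ∈ A, ∃ s ∈ S, s * a ∈ H) :
    Nat.card (S ⊓ H : Subgroup T) * S.relIndex A = Nat.card (A ⊓ H : Subgroup T) := by
  haveI : (S.subgroupOf A).Normal := normal_subgroupOf_of_le_normalizer hAS
  let f : (A ⊓ H : Subgroup T) →* A ⧸ S.subgroupOf A :=
    (QuotientGroup.mk' _).comp (inclusion inf_le_left)
  have hf : Function.Surjective f := by
    intro q
    obtain ⟨a, rfl⟩ := QuotientGroup.mk_surjective q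
    obtain ⟨s, hs, hsa⟩ := h a a.2
    refine ⟨⟨s * a, A.mul_mem (hSA hs) a.2, hsa⟩, ?_⟩
    simp only [f, MonoidHom.comp_apply, QuotientGroup.mk'_apply]
    rw [QuotientGroup.eq, mem_subgroupOf]
    have := conj_mem_of_le' hAS a.2 (S.inv_mem hs)
    simpa [mul_assoc] using this
  have hker : f.ker = S.subgroupOf (A ⊓ H) := by
    ext x
    simp only [f, MonoidHom.mem_ker, MonoidHom.comp_apply, QuotientGroup.mk'_apply,
      QuotientGroup.eq_one_iff, mem_subgroupOf, coe_inclusion]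
  have h1 : S.relIndex (A ⊓ H) = S.relIndex A := by
    change (S.subgroupOf (A ⊓ H)).index = Nat.card (A ⧸ S.subgroupOf A)
    rw [← hker, index_ker, MonoidHom.range_eq_top.2 hf, card_top]
  have h2 := card_inf_mul_relIndex (A ⊓ H) S
  rw [h1] at h2
  have h3 : S ⊓ H = A ⊓ H ⊓ S := by
    ext x
    exact ⟨fun hx => ⟨⟨hSA hx.1, hx.2⟩, hx.1⟩, fun hx => ⟨hx.2, hx.1.2⟩⟩
  rw [← h2, h3]

/-- Frattini, counted. -/
theorem frattini_card [Finite T] {A S P : Subgroup T} {p k : ℕ} (hp : p.Prime) (hPS : P ≤ S)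
    (hSA : S ≤ A) (hAS : A ≤ normalizer (S : Set T)) (hP : Nat.card P = p ^ k)
    (hk : ¬ p ^ (k + 1) ∣ Nat.card S) :
    Nat.card (S ⊓ normalizer (P : Set T) : Subgroup T) * S.relIndex A =
      Nat.card (A ⊓ normalizer (P : Set T) : Subgroup T) :=
  card_inf_eq hSA hAS fun _ ha => frattini hp hPS hAS hP hk ha

/-- Burnside's transfer theorem in ambient form: an abelian Sylow subgroup `P` of `S` which is
central in `N_S(P)` has a normal complement. -/
theorem burnside [Finite T] {S P : Subgroup T} {p k : ℕ} (hp : p.Prime) (hPS : P ≤ S)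
    (hP : Nat.card P = p ^ k) (hk : ¬ p ^ (k + 1) ∣ Nat.card S)
    (hc : ∀ s ∈ S, s ∈ normalizer (P : Set T) → ∀ x ∈ P, x * s = s * x) :
    ∃ K : Subgroup T, K ≤ S ∧ Nat.card K * p ^ k = Nat.card S ∧
      ∀ x ∈ S, x ∈ K ↔ ¬ p ∣ orderOf x := by
  haveI := Fact.mk hp
  obtain ⟨Q, hQ⟩ := exists_sylow hPS hP hk
  have hQc : normalizer (Q : Set S) ≤ centralizer (Q : Set S) := by
    intro s hs
    rw [← Q.coe_coe, hQ, ← subgroupOf_normalizer_eq hPS] at hs
    rw [mem_centralizer_iff]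
    intro x hx
    rw [← Q.coe_coe, hQ] at hx
    exact Subtype.ext (hc s s.2 hs x hx)
  have hcomp := MonoidHom.ker_transferSylow_isComplement' Q hQc
  have hcard : Nat.card (Q : Subgroup S) = p ^ k := by
    rw [hQ, Nat.card_congr (subgroupOfEquivOfLe hPS).toEquiv, hP]
  have hmul := hcomp.card_mul_card
  have hidx := hcomp.symm.index_eq_card
  rw [hcard] at hmul hidx
  refine ⟨(MonoidHom.transferSylow Q hQc).ker.map S.subtype, map_subtype_le _, ?_, fun x hx => ?_⟩
  · rw [card_map_of_injective S.subtype_injective, hmul]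
  · have hnd : ¬ p ∣ Nat.card (MonoidHom.transferSylow Q hQc).ker := by
      intro hd
      apply hk
      rw [← hmul, pow_succ']
      exact Nat.mul_dvd_mul_right hd _
    constructor
    · rintro ⟨y, hy, rfl⟩ hd
      apply hnd
      rw [Subgroup.coe_subtype, orderOf_coe] at hd
      exact hd.trans (orderOf_dvd_natCard _ hy)
    · intro hd
      refine ⟨⟨x, hx⟩, ?_, rfl⟩
      rw [SetLike.mem_coe, ← QuotientGroup.eq_one_iff, ← orderOf_eq_one_iff]
      refine Nat.eq_one_of_dvd_coprimes (a := p ^ k) (b := orderOf x) ?_ ?_ ?_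
      · exact ((Nat.Prime.coprime_iff_not_dvd hp).2 hd).pow_left k
      · rw [← hidx]; exact orderOf_dvd_natCard _
      · have := orderOf_map_dvd (QuotientGroup.mk' (MonoidHom.transferSylow Q hQc).ker) ⟨x, hx⟩
        rwa [← orderOf_coe] at this

/-- Burnside for a simple group. -/
theorem burnside_simple [Finite T] {S P : Subgroup T} {p k : ℕ} (hp : p.Prime) (hPS : P ≤ S)
    (hP : Nat.card P = p ^ k) (hk : ¬ p ^ (k + 1) ∣ Nat.card S) (hk0 : k ≠ 0) [IsSimpleGroup S]
    (hne : Nat.card S ≠ p ^ k) :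
    ∃ s ∈ S, s ∈ normalizer (P : Set T) ∧ ∃ x ∈ P, x * s ≠ s * x := by
  by_contra hcon
  push Not at hcon
  obtain ⟨K, hKS, hK, hmem⟩ := burnside hp hPS hP hk hcon
  have hn : (K.subgroupOf S).Normal := ⟨fun x hx g => by
    rw [mem_subgroupOf] at hx ⊢
    rw [hmem _ (g * x * g⁻¹).2]
    have := orderOf_conj' (g : T)⁻¹ x
    rw [inv_inv] at this
    rw [Subgroup.coe_mul, Subgroup.coe_mul, Subgroup.coe_inv, this]
    exact (hmem _ x.2).1 hx⟩
  have hc : Nat.card (K.subgroupOf S) = Nat.card K := Nat.card_congr (subgroupOfEquivOfLe hKS).toEquiv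
  rcases hn.eq_bot_or_eq_top with e | e
  · rw [e, card_bot] at hc
    rw [← hc, one_mul] at hK
    exact hne hK.symm
  · rw [e, card_top] at hc
    rw [← hc] at hK
    have h1 : p ^ k = 1 := by
      have := Nat.card_pos (α := S)
      nlinarith [Nat.eq_of_mul_eq_mul_left this (hK.trans (mul_one _).symm)]
    exact hk0 ((Nat.pow_eq_one.1 h1).resolve_left hp.ne_one)

/-- Fibre count: a map on `A` to a finite set whose fibres lie in cosets of `D`. -/
theorem card_le_mul [Finite T] {A D : Subgroup T} {ι : Type*} (s : Finset ι) (f : T → ι)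
    (hf : ∀ a ∈ A, f a ∈ s) (hD : ∀ a ∈ A, ∀ b ∈ A, f a = f b → a⁻¹ * b ∈ D) :
    Nat.card A ≤ s.card * Nat.card D := by
  classical
  have hrep : ∀ i : s, ∃ c : T, ∀ a ∈ A, f a = i → c⁻¹ * a ∈ D := by
    intro i
    by_cases h : ∃ c ∈ A, f c = i
    · obtain ⟨c, hc, hci⟩ := h
      exact ⟨c, fun a ha hai => hD c hc a ha (hci.trans hai.symm)⟩
    · exact ⟨1, fun a ha hai => (h ⟨a, ha, hai⟩).elim⟩
  choose c hc using hrep
  rw [← Fintype.card_coe s, ← Nat.card_eq_fintype_card, ← Nat.card_prod]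
  refine Nat.card_le_card_of_injective
    (fun a : A => ((⟨f a, hf a a.2⟩ : s), (⟨_, hc ⟨f a, hf a a.2⟩ a a.2 rfl⟩ : D))) fun a b hab => ?_
  have h1 : (⟨f a, hf a a.2⟩ : s) = ⟨f b, hf b b.2⟩ := congrArg Prod.fst hab
  have h2 : (c ⟨f a, hf a a.2⟩)⁻¹ * a = (c ⟨f b, hf b b.2⟩)⁻¹ * b :=
    congrArg (fun x => (x.2 : T)) hab
  rw [h1] at h2
  exact Subtype.ext (mul_left_cancel h2)

theorem comm_of_conj_eq {a b x : T} (h : a * x * a⁻¹ = b * x * b⁻¹) : a⁻¹ * b * x = x * (a⁻¹ * b) := by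
  calc a⁻¹ * b * x = a⁻¹ * (b * x * b⁻¹) * b := by group
    _ = x * (a⁻¹ * b) := by rw [← h]; group

/-- `A` acts on a finite set `X` of group elements by conjugation. -/
theorem card_le_of_conj [Finite T] {A : Subgroup T} {X : Set T} {x : T}
    (hX : ∀ a ∈ A, a * x * a⁻¹ ∈ X) :
    Nat.card A ≤ X.ncard * Nat.card (A ⊓ centralizer ({x} : Set T) : Subgroup T) := by
  classical
  rw [Set.ncard_eq_toFinset_card X (Set.toFinite X)]
  refine card_le_mul _ (fun a => a * x * a⁻¹) (fun a ha => by simpa using hX a ha)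
    fun a ha b hb h => ⟨A.mul_mem (A.inv_mem ha) hb, ?_⟩
  exact mem_centralizer_singleton_iff.2 (comm_of_conj_eq h)

theorem ncard_diff_one [Finite T] (N : Subgroup T) : ((N : Set T) \ {1}).ncard + 1 = Nat.card N := by
  rw [Set.ncard_sdiff_singleton_add_one N.one_mem, ← Nat.card_coe_set_eq, SetLike.coe_sort_coe]

theorem conj_ne_one {a x : T} (hx : x ≠ 1) : a * x * a⁻¹ ≠ 1 := fun h => hx (by
  have : x = a⁻¹ * (a * x * a⁻¹) * a := by group
  rw [this, h]; simp)

/-- `|A| ≤ (|N| - 1) |C_A(x)|`. -/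
theorem card_le_one [Finite T] {A N : Subgroup T} (hAN : A ≤ normalizer (N : Set T)) {x : T}
    (hx : x ∈ N) (hx1 : x ≠ 1) :
    Nat.card A ≤ (Nat.card N - 1) * Nat.card (A ⊓ centralizer ({x} : Set T) : Subgroup T) := by
  have := card_le_of_conj (A := A) (X := (N : Set T) \ {1}) (x := x)
    fun a ha => ⟨conj_mem_of_le hAN ha hx, conj_ne_one hx1⟩
  rwa [← ncard_diff_one N, Nat.add_sub_cancel]

/-- `|A| ≤ (|N| - 1) (|N| - 2) |C(x) ∩ C(y)|`. -/
theorem card_le_two [Finite T] {A N : Subgroup T} (hAN : A ≤ normalizer (N : Set T)) {x y : T}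
    (hx : x ∈ N) (hx1 : x ≠ 1) (hy : y ∈ N) (hy1 : y ≠ 1) (hxy : y ≠ x) :
    Nat.card A ≤ (Nat.card N - 1) * ((Nat.card N - 2) *
      Nat.card (centralizer ({x} : Set T) ⊓ centralizer ({y} : Set T) : Subgroup T)) := by
  refine (card_le_one hAN hx hx1).trans (Nat.mul_le_mul_left _ ?_)
  have h := card_le_of_conj (A := A ⊓ centralizer ({x} : Set T)) (X := ((N : Set T) \ {1}) \ {x})
    (x := y) fun a ha => ⟨⟨conj_mem_of_le hAN ha.1 hy, conj_ne_one hy1⟩, fun e => hxy (by
      have e' : a * y * a⁻¹ = x := e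
      have h2 := mem_centralizer_singleton_iff.1 ha.2
      calc y = a⁻¹ * (a * y * a⁻¹) * a := by group
        _ = a⁻¹ * (x * a) := by rw [e', mul_assoc]
        _ = x := by rw [← h2]; group)⟩
  refine h.trans (Nat.mul_le_mul ?_ (card_le_of_le fun a ha => ⟨ha.1.2, ha.2⟩))
  have h1 := ncard_diff_one N
  have h2 : (((N : Set T) \ {1}) \ {x}).ncard + 1 = ((N : Set T) \ {1}).ncard :=
    Set.ncard_sdiff_singleton_add_one ⟨hx, hx1⟩
  omega

/-- Fixed points of an element of prime power order normalising `N`. -/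
theorem card_cent_modEq [Finite T] {N : Subgroup T} {x : T} {q k : ℕ} (hq : q.Prime)
    (hx : x ^ q ^ k = 1) (hxN : x ∈ normalizer (N : Set T)) :
    Nat.card N ≡ Nat.card (N ⊓ centralizer ({x} : Set T) : Subgroup T) [MOD q] := by
  haveI := Fact.mk hq
  have hle : zpowers x ≤ normalizer (N : Set T) := (zpowers_le).2 hxN
  letI : MulAction (zpowers x) N :=
    MulAction.compHom N (N.normalizerMonoidHom.comp (inclusion hle))
  have hP : IsPGroup q (zpowers x) := by
    rintro ⟨_, n, rfl⟩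
    refine ⟨k, Subtype.ext ?_⟩
    change (x ^ n) ^ q ^ k = 1
    rw [← zpow_natCast, ← zpow_mul, mul_comm, zpow_mul, zpow_natCast, hx, one_zpow]
  have h := hP.card_modEq_card_fixedPoints N
  have hs : ∀ (g : zpowers x) (n : N), ((g • n : N) : T) = g * n * (g : T)⁻¹ := fun _ _ => rfl
  refine h.trans (by
    have : Nat.card (MulAction.fixedPoints (zpowers x) N) =
        Nat.card (N ⊓ centralizer ({x} : Set T) : Subgroup T) := by
      refine Nat.card_congr ⟨fun n => ⟨n.1, n.1.2, ?_⟩, fun n => ⟨⟨n.1, n.2.1⟩, ?_⟩,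
        fun _ => rfl, fun _ => rfl⟩
      · have h1 := congrArg Subtype.val (n.2 ⟨x, mem_zpowers x⟩)
        rw [hs] at h1
        exact mem_centralizer_singleton_iff.2 (mul_inv_eq_iff_eq_mul.1 h1).symm
      · rintro ⟨_, m, rfl⟩
        apply Subtype.ext
        rw [hs]
        have h1 : Commute (n : T) x := mem_centralizer_singleton_iff.1 n.2.2
        exact mul_inv_eq_iff_eq_mul.2 (h1.zpow_right m).symm.eq
    rw [this])

/-- Elements of odd order `r` each centralised by an involution of `A`. -/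
theorem two_mul_ncard_le [Finite T] {A : Subgroup T} {Y : Set T} {r : ℕ} (hr : Odd r)
    (hY : ∀ x ∈ Y, x ∈ A ∧ x ^ r = 1 ∧ ∃ z ∈ A, z ≠ 1 ∧ z * z = 1 ∧ Commute x z) :
    2 * Y.ncard ≤ Nat.card A := by
  classical
  choose! hA hr' z hzA hz1 hz2 hc using hY
  have hz : ∀ x ∈ Y, ∀ m, z x ^ (2 * m) = 1 := fun x hx m => by
    rw [pow_mul, pow_two, hz2 x hx, one_pow]
  obtain ⟨m, hm⟩ := hr
  have hinj : Set.InjOn (fun x => x * z x) Y := by
    have key : ∀ x ∈ Y, (x * z x) ^ (2 * (m + 1)) = x := fun x hx => by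
      rw [(hc x hx).mul_pow, hz x hx, mul_one, show 2 * (m + 1) = r + 1 by omega, pow_succ,
        hr' x hx, one_mul]
    intro x hx y hy e
    have e' : x * z x = y * z y := e
    rw [← key x hx, e', key y hy]
  have hdis : Disjoint Y ((fun x => x * z x) '' Y) := by
    rw [Set.disjoint_left]
    rintro _ hy ⟨x, hx, rfl⟩
    have h1 := hr' _ hy
    simp only at h1
    rw [(hc x hx).mul_pow, hr' x hx, one_mul, hm, pow_succ, hz x hx, one_mul] at h1
    exact hz1 x hx h1
  rw [two_mul]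
  nth_rewrite 2 [← hinj.ncard_image]
  rw [← Set.ncard_union_eq hdis]
  refine ncard_le_card_subgroup ?_
  rintro _ (hx | ⟨x, hx, rfl⟩)
  · exact hA _ hx
  · exact A.mul_mem (hA x hx) (hzA x hx)

/-- The elements inverting `g` lie in a coset of `C(g)`. -/
theorem ncard_inv_le [Finite T] {I : Set T} {g h : T} (hI : ∀ x ∈ I, x * g * x⁻¹ = h) :
    I.ncard ≤ Nat.card (centralizer ({g} : Set T)) := by
  rcases I.eq_empty_or_nonempty with rfl | ⟨c, hc⟩
  · simp
  rw [← Set.ncard_image_of_injective I (mul_right_injective c⁻¹)]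
  refine ncard_le_card_subgroup ?_
  rintro _ ⟨x, hx, rfl⟩
  exact mem_centralizer_singleton_iff.2 (comm_of_conj_eq ((hI c hc).trans (hI x hx).symm))

/-- Involutions in a set `X` closed under right multiplication by `g` of prime order `p`. -/
theorem invol_count [Finite T] {X I : Set T} {g : T} {p : ℕ} (hp : p.Prime) (hg : orderOf g = p)
    (hX : ∀ x ∈ X, x * g ∈ X) (hI : ∀ x ∈ I, x ∈ X ∧ x * x = 1) :
    p * I.ncard ≤ X.ncard + (p - 1) * Nat.card (centralizer ({g} : Set T)) := by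
  classical
  let I₁ : Set T := {x ∈ I | x * g * x⁻¹ = g⁻¹}
  let I₂ : Set T := {x ∈ I | x * g * x⁻¹ ≠ g⁻¹}
  have h1 : I₁.ncard ≤ Nat.card (centralizer ({g} : Set T)) := ncard_inv_le fun x hx => hx.2
  have h12 : I₁.ncard + I₂.ncard = I.ncard := by
    rw [← Set.ncard_union_eq (Set.disjoint_left.2 fun x h h' => h'.2 h.2)]
    congr 1
    ext x
    by_cases h : x * g * x⁻¹ = g⁻¹ <;> simp [I₁, I₂, h]
  have hXp : ∀ x ∈ X, ∀ j : ℕ, x * g ^ j ∈ X := by
    intro x hx j
    induction j with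
    | zero => simpa using hx
    | succ j ih => rw [pow_succ, ← mul_assoc]; exact hX _ ih
  -- inverting a non-trivial power is inverting `g`
  have hinv : ∀ (x : T) (n : ℤ), g ^ n ≠ 1 → x * g ^ n * x⁻¹ = (g ^ n)⁻¹ → x * g * x⁻¹ = g⁻¹ := by
    intro x n hn hx
    have hmem : g ∈ zpowers (g ^ n) := by
      haveI := Fact.mk hp
      have hc : Nat.card (zpowers g) = p := by rw [Nat.card_zpowers, hg]
      have hle : zpowers (g ^ n) ≤ zpowers g := zpowers_le.2 (zpow_mem (mem_zpowers g) n)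
      have := (Nat.dvd_prime hp).1 (hc ▸ card_dvd_of_le hle)
      rcases this with e | e
      · rw [Nat.card_zpowers, orderOf_eq_one_iff] at e; exact absurd e hn
      · rw [eq_of_le_of_card_ge hle (by rw [e, hc])]; exact mem_zpowers g
    obtain ⟨m, hm⟩ := hmem
    simp only at hm
    calc x * g * x⁻¹ = (x * g ^ n * x⁻¹) ^ m := by rw [conj_zpow, hm]
      _ = g⁻¹ := by rw [hx, inv_zpow, hm]
  let f : T × ℕ → T := fun q => q.1 * g ^ q.2
  have hinj : Set.InjOn f (I₂ ×ˢ (Finset.range p : Set ℕ)) := by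
    rintro ⟨x, i⟩ ⟨hx, hi⟩ ⟨y, j⟩ ⟨hy, hj⟩ e
    have e' : x * g ^ i = y * g ^ j := e
    have hy' : y = x * g ^ ((i : ℤ) - j) := by
      rw [zpow_sub, zpow_natCast, zpow_natCast, ← mul_assoc, e']; group
    have hone : g ^ ((i : ℤ) - j) = 1 := by
      by_contra hne
      refine hx.2 (hinv x _ hne ?_)
      have h2 := (hI y hy.1).2
      have h3 : x⁻¹ = x := inv_eq_of_mul_eq_one_right (hI x hx.1).2
      rw [hy'] at h2
      rw [h3]
      exact eq_inv_of_mul_eq_one_left (by rw [← h2]; group)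
    have hxy : y = x := by rw [hy', hone, mul_one]
    subst hxy
    have hij : i = j := pow_injOn_Iio_orderOf (x := g) (by simpa [hg] using hi)
      (by simpa [hg] using hj) (mul_left_cancel e')
    rw [hij]
  have hdis : Disjoint I₁ (f '' (I₂ ×ˢ (Finset.range p : Set ℕ))) := by
    rw [Set.disjoint_left]
    rintro _ h ⟨⟨x, j⟩, ⟨hx, -⟩, rfl⟩
    refine hx.2 ?_
    have h2 : x * g ^ j * g * (x * g ^ j)⁻¹ = g⁻¹ := h.2
    rw [← h2]; group
  have hle : I₁.ncard + I₂.ncard * p ≤ X.ncard := by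
    have h3 : (f '' (I₂ ×ˢ (Finset.range p : Set ℕ))).ncard = I₂.ncard * p := by
      rw [hinj.ncard_image, Set.ncard_prod, Set.ncard_coe_finset, Finset.card_range]
    rw [← h3, ← Set.ncard_union_eq hdis]
    refine Set.ncard_le_ncard ?_
    rintro _ (h | ⟨⟨x, j⟩, ⟨hx, -⟩, rfl⟩)
    · exact (hI _ h.1).1
    · exact hXp x (hI x hx.1).1 j
  obtain ⟨q, rfl⟩ : ∃ q, p = q + 1 := ⟨p - 1, by have := hp.pos; omega⟩
  rw [← h12, Nat.add_sub_cancel]
  nlinarith [Nat.mul_le_mul_left q h1]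

end Cfsg.Agent.SP.NegS
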