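import Cfsg.Agent.SP.NegS.Gen
import Cfsg.Agent.H305.SepJ1

/-! # S5755: the first Janko group has no pair -/

set_option autoImplicit false
set_option linter.style.haveILetI false

namespace Cfsg.Agent.SP.NegS.J1

open Subgroup Cfsg.Agent.SP Cfsg.Agent.SP.NegS Cfsg.Agent.H305.SepJ1

abbrev H : Type := Multiplicative (ZMod 2) × alternatingGroup (Fin 5)

local instance finG : Finite G := fin
local instance simpG : IsSimpleGroup G := simple

theorem cardG : Nat.card G = 175560 := card

theorem ncard_eq {T K : Type*} [Group T] [Group K] {C : Subgroup T} (e : C ≃* K) (S : Set T)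
    (hS : ∀ x ∈ S, x ∈ C) : S.ncard = {h : K | (e.symm h : T) ∈ S}.ncard := by
  have hinj : Function.Injective fun h : K => (e.symm h : T) :=
    Subtype.val_injective.comp e.symm.injective
  rw [← Set.ncard_image_of_injective _ hinj]
  congr 1
  ext x
  constructor
  · intro hx; exact ⟨e ⟨x, hS x hx⟩, by simpa using hx, by simp⟩
  · rintro ⟨h, hh, rfl⟩; exact hh

theorem H_four : ∀ a : H, a ^ 4 = 1 → a ^ 2 = 1 := by
  rintro ⟨a, b⟩ h
  have h1 : ∀ a : Multiplicative (ZMod 2), a ^ 2 = 1 := by decide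
  have h2 : ∀ b : alternatingGroup (Fin 5), b ^ 4 = 1 → b ^ 2 = 1 := by decide +kernel
  exact Prod.ext (h1 a) (h2 b (congrArg Prod.snd h))

theorem H_inv : {h : H | h * h = 1}.ncard = 32 := by
  rw [Set.ncard_eq_toFinset_card', Set.toFinset_ofPred]
  decide +kernel

theorem A_center : ∀ a : alternatingGroup (Fin 5), (∀ y, a * y = y * a) → a = 1 := by
  decide +kernel

theorem A_cent : ∀ a : alternatingGroup (Fin 5), a * a = 1 → a ≠ 1 →
    (Finset.univ.filter fun y : H => y.2 * a = a * y.2).card = 8 := by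
  decide +kernel

theorem ord2 {T : Type*} [Group T] {x : T} (h : x * x = 1) (h1 : x ≠ 1) : orderOf x = 2 :=
  orderOf_eq_prime (by rw [pow_two, h]) h1

theorem four {g : G} (hg : g ^ 4 = 1) : g ^ 2 = 1 := by
  by_contra hne
  have hx : orderOf (g ^ 2) = 2 := orderOf_eq_prime (by rw [← pow_mul, hg]) hne
  obtain ⟨e⟩ := local'.cent (g ^ 2) hx
  have h1 : g ∈ centralizer ({g ^ 2} : Set G) := by
    rw [mem_centralizer_singleton_iff, ← pow_succ, ← pow_succ']
  have h2 : (e ⟨g, h1⟩) ^ 4 = 1 := by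
    rw [← map_pow, show (⟨g, h1⟩ : centralizer ({g ^ 2} : Set G)) ^ 4 = 1 from Subtype.ext hg,
      map_one]
  have h3 := H_four _ h2
  rw [← map_pow] at h3
  exact hne (congrArg Subtype.val (e.injective (h3.trans e.map_one.symm)))

theorem sq_of_two {g : G} : ∀ {k : ℕ}, g ^ 2 ^ k = 1 → g * g = 1 := by
  intro k
  induction k generalizing g with
  | zero => intro h; rw [pow_zero, pow_one] at h; rw [h, one_mul]
  | succ k ih =>
    intro h
    rw [pow_succ', pow_mul] at h
    rw [← pow_two]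
    exact four (by rw [show 4 = 2 + 2 from rfl, pow_add]; exact ih h)

theorem invol_cent {z : G} (hz : orderOf z = 2) {Y : Set G}
    (hY : ∀ x ∈ Y, x ∈ centralizer ({z} : Set G) ∧ x * x = 1) : Y.ncard ≤ 32 := by
  obtain ⟨e⟩ := local'.cent z hz
  rw [ncard_eq e Y fun x hx => (hY x hx).1, ← H_inv]
  refine Set.ncard_le_ncard fun h hh => ?_
  apply e.symm.injective
  rw [map_mul, map_one]
  exact Subtype.ext (hY _ hh).2

theorem cent_two {z u : G} (hz : orderOf z = 2) (hu : u * u = 1) (hu1 : u ≠ 1) (huz : u ≠ z)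
    (hc : u * z = z * u) :
    Nat.card (centralizer ({z} : Set G) ⊓ centralizer ({u} : Set G) : Subgroup G) = 8 := by
  obtain ⟨e⟩ := local'.cent z hz
  have hzC : z ∈ centralizer ({z} : Set G) := mem_centralizer_singleton_iff.2 rfl
  have huC : u ∈ centralizer ({z} : Set G) := mem_centralizer_singleton_iff.2 hc
  have h1 : (e ⟨z, hzC⟩).2 = 1 := A_center _ fun y => by
    obtain ⟨w, hw⟩ := e.surjective (1, y)
    have : (⟨z, hzC⟩ : centralizer ({z} : Set G)) * w = w * ⟨z, hzC⟩ :=
      Subtype.ext (mem_centralizer_singleton_iff.1 w.2).symm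
    have h2 := congrArg (fun x => (e x).2) this
    simpa [hw] using h2
  have h3 : (e ⟨u, huC⟩).2 ≠ 1 := by
    intro h
    have key : ∀ a b : Multiplicative (ZMod 2), a = 1 ∨ b = 1 ∨ a = b := by decide
    rcases key (e ⟨u, huC⟩).1 (e ⟨z, hzC⟩).1 with h4 | h4 | h4
    · exact hu1 (congrArg Subtype.val (e.injective ((Prod.ext h4 h).trans e.map_one.symm)))
    · have : z = 1 := congrArg Subtype.val (e.injective ((Prod.ext h4 h1).trans e.map_one.symm))
      rw [this, orderOf_one] at hz; omega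
    · exact huz (congrArg Subtype.val (e.injective (Prod.ext h4 (h.trans h1.symm))))
  have h4 : (e ⟨u, huC⟩).2 * (e ⟨u, huC⟩).2 = 1 := by
    rw [← Prod.snd_mul, ← map_mul, show (⟨u, huC⟩ : centralizer ({z} : Set G)) * ⟨u, huC⟩ = 1 from
      Subtype.ext hu, map_one, Prod.snd_one]
  rw [← SetLike.coe_sort_coe, Nat.card_coe_set_eq, ncard_eq e _ fun x hx => hx.1, ← A_cent _ h4 h3,
    ← Set.ncard_coe_finset]
  congr 1
  ext h
  simp only [Set.mem_ofPred_eq, Finset.coe_filter, Finset.mem_univ, true_and, SetLike.mem_coe,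
    mem_inf, mem_centralizer_singleton_iff (g := u)]
  constructor
  · rintro ⟨-, h5⟩
    have : e.symm h * ⟨u, huC⟩ = ⟨u, huC⟩ * e.symm h := Subtype.ext h5
    have h6 := congrArg (fun x => (e x).2) this
    simpa using h6
  · intro h5
    refine ⟨(e.symm h).2, ?_⟩
    have : e.symm h * ⟨u, huC⟩ = ⟨u, huC⟩ * e.symm h := by
      apply e.injective
      rw [map_mul, map_mul, e.apply_symm_apply]
      exact Prod.ext (mul_comm _ _) h5
    exact congrArg Subtype.val this

theorem prime_cases {r : ℕ} (hr : r.Prime) (h : r ∣ 175560) :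
    r = 2 ∨ r = 3 ∨ r = 5 ∨ r = 7 ∨ r = 11 ∨ r = 19 := by
  have h1 : r ∈ Nat.primeFactors 175560 := Nat.mem_primeFactors.2 ⟨hr, h, by norm_num⟩
  have h2 : Nat.primeFactors 175560 = {2, 3, 5, 7, 11, 19} := by decide +kernel
  simpa [h2] using h1

theorem card_dvd (A : Subgroup G) : Nat.card A ∣ 175560 := cardG ▸ A.card_subgroup_dvd_card

/-- Centraliser orders of the elements of prime order. -/
def cc (r : ℕ) : ℕ := if r = 2 then 120 else if r = 3 ∨ r = 5 then 30 else r

theorem cent_prime {x : G} {r : ℕ} (hr : r.Prime) (hx : orderOf x = r) :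
    Nat.card (centralizer ({x} : Set G)) = cc r := by
  have hd : r ∣ 175560 := by rw [← hx, ← cardG]; exact orderOf_dvd_natCard x
  have hz : Nat.card (zpowers x) = r := by rw [Nat.card_zpowers, hx]
  rcases prime_cases hr hd with rfl | rfl | rfl | rfl | rfl | rfl
  · exact card_cent_two hx
  · exact local'.cent3 x hx
  · exact local'.cent5 x hx
  · rw [← cent_zpowers]; exact (cn7 hz).1
  · rw [← cent_zpowers]; exact (cn11 hz).1
  · rw [← cent_zpowers]; exact (cn19 hz).1

variable {A B : Subgroup G}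

/-- the `r`-elements outside `B` have order `r` -/
theorem ord_out {r : ℕ} (hr : r.Prime) {x : G} (hx : x ∈ outElems A B r) : orderOf x = r := by
  haveI := Fact.mk hr
  obtain ⟨-, hxB, k, hk⟩ := hx
  have hx1 : x ≠ 1 := fun e => hxB (e ▸ B.one_mem)
  by_cases h2 : r = 2
  · subst h2; exact ord2 (sq_of_two hk) hx1
  obtain ⟨j, -, hj⟩ := (Nat.dvd_prime_pow hr).1 (orderOf_dvd_of_pow_eq_one hk)
  have hd : r ^ j ∣ 175560 := by rw [← hj, ← cardG]; exact orderOf_dvd_natCard x
  rcases j with _ | _ | j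
  · exact absurd (orderOf_eq_one_iff.1 (by simpa using hj)) hx1
  · simpa using hj
  · exfalso
    have h3 : r ^ 2 ∣ 175560 := (pow_dvd_pow r (by omega)).trans hd
    rcases prime_cases hr ((dvd_pow_self r two_ne_zero).trans h3) with
      rfl | rfl | rfl | rfl | rfl | rfl <;> simp_all

theorem count (h : IsPair A B) {r : ℕ} (hr : r.Prime) (hd : r ∣ B.relIndex A) :
    (r - 1) * 175560 ≤ (outElems A B r).ncard ^ 2 * cc r := by
  have := h.count_out hr hd (fun _ => ()) (fun _ _ _ => rfl) (fun _ => (outElems A B r).ncard)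
    (fun _ => cc r) (fun _ => by simp) fun x hx => (cent_prime hr (ord_out hr hx)).le
  simpa [cardG] using this

theorem lower (h : IsPair A B) {r : ℕ} (hr : r.Prime) (hd : r ∣ B.relIndex A) :
    (r = 2 ∧ 39 ≤ (outElems A B r).ncard) ∨ (r = 3 ∧ 109 ≤ (outElems A B r).ncard) ∨
      (r = 5 ∧ 153 ≤ (outElems A B r).ncard) ∨ (7 ≤ r ∧ 388 ≤ (outElems A B r).ncard) := by
  have h1 := count h hr hd
  have hd' : r ∣ 175560 :=
    (hd.trans (Dvd.intro_left _ (card_mul_relIndex h.le))).trans (card_dvd A)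
  generalize (outElems A B r).ncard = n at h1
  rcases prime_cases hr hd' with rfl | rfl | rfl | rfl | rfl | rfl <;> simp [cc] at h1 ⊢ <;>
    by_contra hn <;> nlinarith

theorem out_sub {r : ℕ} : ∀ x ∈ outElems A B r, x ∈ A ∧ x ∉ B := fun _ hx => ⟨hx.1, hx.2.1⟩

/-- The two cases. -/
theorem cases (h : IsMaxPair A B) :
    (B.relIndex A = 2 ∧ 39 ≤ (outElems A B 2).ncard ∧ 78 ≤ Nat.card A) ∨
    ∃ r, r.Prime ∧ r ≠ 2 ∧ r ∣ B.relIndex A ∧ 109 ≤ (outElems A B r).ncard ∧
      109 + Nat.card B ≤ Nat.card A := by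
  rcases two_or_odd h with h2 | ⟨r, hr, h2, hd⟩
  · left
    have h1 := lower h.pair Nat.prime_two (h2 ▸ dvd_rfl)
    have h3 := ncard_le_of_two h.pair.le h2 (out_sub (r := 2))
    refine ⟨h2, ?_, ?_⟩ <;> omega
  · right
    have h1 := lower h.pair hr hd
    have h3 := ncard_add_le h.pair.le (out_sub (A := A) (B := B) (r := r))
    refine ⟨r, hr, h2, hd, ?_, ?_⟩ <;> omega

theorem card_ge (h : IsMaxPair A B) : 78 ≤ Nat.card A := by
  rcases cases h with h | ⟨r, -, -, -, -, h⟩ <;> omega

/-- `N` of odd prime order -/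
theorem odd_local (h : IsMaxPair A B) {N : Subgroup G} (hNB : N ≤ B)
    (hAN : A ≤ normalizer (N : Set G)) {p : ℕ} (hp : p.Prime) (h2 : p ≠ 2) (hN : Nat.card N = p) :
    False := by
  have h78 := card_ge h
  obtain ⟨g, hg, rfl⟩ := eq_zpowers hp hN
  have hg1 : g ≠ 1 := by rintro rfl; rw [orderOf_one] at hg; exact hp.ne_one hg.symm
  have hle := card_le_of_le hAN
  have hd : p ∣ 175560 := hN ▸ card_dvd _
  have hbig : p = 11 ∨ p = 19 := by
    rcases prime_cases hp hd with rfl | rfl | rfl | rfl | rfl | rfl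
    · exact absurd rfl h2
    · have h3 := card_le_one hAN (mem_zpowers g) hg1
      have h4 := card_le_of_le (inf_le_right : A ⊓ centralizer ({g} : Set G) ≤ _)
      rw [local'.cent3 g hg] at h4
      rw [hN] at h3
      omega
    · rw [(cn5 hN).2] at hle; omega
    · rw [(cn7 hN).2] at hle; omega
    · exact Or.inl rfl
    · exact Or.inr rfl
  have hC : Nat.card (centralizer ({g} : Set G)) = p := by
    rw [cent_prime hp hg]; rcases hbig with rfl | rfl <;> rfl
  rcases cases h with ⟨-, h3, -⟩ | ⟨r, -, -, -, -, h3⟩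
  · have : (outElems A B 2).ncard ≤ p := by
      rw [← hC]
      refine ncard_inv_le (h := g⁻¹) fun x hx => ?_
      have hx2 : x * x = 1 := let ⟨_, _, _, hk⟩ := hx; sq_of_two hk
      have hxi : x⁻¹ = x := inv_eq_of_mul_eq_one_right hx2
      -- `g * g^x` is centralised by `x`
      have hm : x * g * x⁻¹ ∈ zpowers g := conj_mem_of_le hAN hx.1 (mem_zpowers g)
      have hcg : Commute g (x * g * x⁻¹) := by
        obtain ⟨n, hn⟩ := hm
        rw [← hn]; exact (Commute.refl g).zpow_right n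
      by_contra hne
      have hne1 : g * (x * g * x⁻¹) ≠ 1 := fun e => hne (eq_inv_of_mul_eq_one_right e)
      have hm' : g * (x * g * x⁻¹) ∈ zpowers g := mul_mem (mem_zpowers g) hm
      have ho : orderOf (g * (x * g * x⁻¹)) = p := by
        have h5 : orderOf (g * (x * g * x⁻¹)) ∣ p := hN ▸ orderOf_dvd_natCard _ hm'
        exact ((Nat.dvd_prime hp).1 h5).resolve_left fun e => hne1 (orderOf_eq_one_iff.1 e)
      have hxC : x ∈ centralizer ({g * (x * g * x⁻¹)} : Set G) := by
        rw [mem_centralizer_singleton_iff]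
        calc x * (g * (x * g * x⁻¹)) = (x * g * x⁻¹) * (x * x) * g * x⁻¹ := by group
          _ = (x * g * x⁻¹) * g * x := by rw [hx2, mul_one, hxi]
          _ = _ := by rw [← hcg.eq]
      have h6 := orderOf_dvd_natCard _ hxC
      rw [cent_prime hp ho, ord_out Nat.prime_two hx] at h6
      rcases hbig with rfl | rfl <;> simp [cc] at h6
    omega
  · have h4 := card_le_of_le hNB
    rcases hbig with rfl | rfl
    · rw [(cn11 hN).2] at hle; omega
    · rw [(cn19 hN).2] at hle; omega

/-- `N` a `2`-group -/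
theorem two_local (h : IsMaxPair A B) {N : Subgroup G} (hNB : N ≤ B) (hN0 : N ≠ ⊥)
    (hAN : A ≤ normalizer (N : Set G)) (hN : ElemAb 2 N) : False := by
  have h78 := card_ge h
  obtain ⟨-, hcomm, hsq⟩ := hN
  have hP : IsPGroup 2 N := fun x => ⟨1, Subtype.ext (by simpa using hsq x x.2)⟩
  obtain ⟨k, hk⟩ := IsPGroup.iff_card.1 hP
  have hk3 : k ≤ 3 := by
    by_contra hlt
    have : 2 ^ 4 ∣ 175560 := (pow_dvd_pow 2 (by omega)).trans (hk ▸ card_dvd N)
    norm_num at this
  obtain ⟨z, hzN, hz1⟩ : ∃ z ∈ N, z ≠ 1 := by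
    by_contra hc; push Not at hc; exact hN0 ((eq_bot_iff_forall _).2 hc)
  have hz2 : ∀ z ∈ N, z * z = 1 := fun z hz => by rw [← pow_two]; exact hsq z hz
  have hz := ord2 (hz2 z hzN) hz1
  have hNA : N ≤ A := hNB.trans h.pair.le
  -- two distinct non-trivial elements of a subgroup of order at least three
  have three : ∀ M : Subgroup G, 3 ≤ Nat.card M → ∃ a ∈ M, ∃ b ∈ M, a ≠ 1 ∧ b ≠ 1 ∧ b ≠ a := by
    intro M hM
    have h1 := ncard_diff_one M
    obtain ⟨a, ha, b, hb, hab⟩ := (Set.one_lt_ncard (s := (M : Set G) \ {1})).1 (by omega)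
    exact ⟨a, ha.1, b, hb.1, ha.2, hb.2, hab.symm⟩
  interval_cases k
  · exact hN0 (card_eq_one.1 hk)
  · have hAC : A ≤ centralizer ({z} : Set G) := by
      intro a ha
      rw [mem_centralizer_singleton_iff]
      have h1 := ncard_diff_one N
      have h2 : ((N : Set G) \ {1}).ncard ≤ 1 := by omega
      have h3 : a * z * a⁻¹ = z := (Set.ncard_le_one_iff (Set.toFinite _)).1 h2
        ⟨conj_mem_of_le hAN ha hzN, conj_ne_one hz1⟩ ⟨hzN, hz1⟩
      exact mul_inv_eq_iff_eq_mul.1 h3
    rcases cases h with ⟨-, h3, -⟩ | ⟨r, hr, hr2, -, h3, -⟩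
    · have := invol_cent hz (Y := outElems A B 2) fun x hx =>
        ⟨hAC hx.1, let ⟨_, _, _, hk⟩ := hx; sq_of_two hk⟩
      omega
    · have h4 := two_mul_ncard_le (A := A) (Y := outElems A B r) (hr.odd_of_ne_two hr2) fun x hx =>
        ⟨hx.1, by rw [← ord_out hr hx]; exact pow_orderOf_eq_one x, z, hNA hzN, hz1, hz2 z hzN,
          mem_centralizer_singleton_iff.1 (hAC hx.1)⟩
      have h5 := card_le_of_le hAC
      rw [card_cent_two hz] at h5
      omega
  · obtain ⟨a, ha, b, hb, ha1, hb1, hab⟩ := three N (by omega)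
    have := card_le_two hAN ha ha1 hb hb1 hab
    rw [cent_two (ord2 (hz2 a ha) ha1) (hz2 b hb) hb1 hab (hcomm b hb a ha), hk] at this
    omega
  · have hno : ∀ q, q = 5 ∨ q = 11 ∨ q = 19 → ¬ q ∣ Nat.card A := by
      intro q hq hd
      have hqp : q.Prime := by rcases hq with rfl | rfl | rfl <;> norm_num
      haveI := Fact.mk hqp
      obtain ⟨x, hx⟩ := exists_prime_orderOf_dvd_card' (G := A) q hd
      rw [← orderOf_coe] at hx
      have h1 := card_cent_modEq (N := N) (x := x) (k := 1) hqp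
        (by rw [pow_one, ← hx, pow_orderOf_eq_one]) (hAN x.2)
      rw [hk] at h1
      have h2 : 3 ≤ Nat.card (N ⊓ centralizer ({(x : G)} : Set G) : Subgroup G) := by
        unfold Nat.ModEq at h1
        rcases hq with rfl | rfl | rfl <;> omega
      obtain ⟨a, ha, b, hb, ha1, hb1, hab⟩ := three _ h2
      have h3 : (x : G) ∈ centralizer ({a} : Set G) ⊓ centralizer ({b} : Set G) :=
        ⟨mem_centralizer_singleton_iff.2 (mem_centralizer_singleton_iff.1 ha.2).symm,
          mem_centralizer_singleton_iff.2 (mem_centralizer_singleton_iff.1 hb.2).symm⟩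
      have h4 := orderOf_dvd_natCard _ h3
      rw [cent_two (ord2 (hz2 a ha.1) ha1) (hz2 b hb.1) hb1 hab (hcomm b hb.1 a ha.1), hx] at h4
      rcases hq with rfl | rfl | rfl <;> norm_num at h4
    have h168 : Nat.card A ∣ 168 := by
      have h1 : Nat.card A ∣ 168 * (5 * (11 * 19)) := card_dvd A
      refine Nat.Coprime.dvd_of_dvd_mul_right ?_ h1
      refine Nat.Coprime.mul_right ?_ (Nat.Coprime.mul_right ?_ ?_)
      · exact ((Nat.Prime.coprime_iff_not_dvd (by norm_num)).2 (hno 5 (by simp))).symm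
      · exact ((Nat.Prime.coprime_iff_not_dvd (by norm_num)).2 (hno 11 (by simp))).symm
      · exact ((Nat.Prime.coprime_iff_not_dvd (by norm_num)).2 (hno 19 (by simp))).symm
    have hle := Nat.le_of_dvd (by norm_num) h168
    rcases cases h with ⟨h2, -, -⟩ | ⟨r, hr, hr2, hd, -, -⟩
    · have h3 := card_mul_relIndex h.pair.le
      have h4 : 2 ^ 3 ∣ Nat.card B := hk ▸ card_dvd_of_le hNB
      rw [h2] at h3
      have h5 : 2 ^ 3 * 2 ∣ 168 := (Nat.mul_dvd_mul_right h4 2).trans (h3 ▸ h168)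
      norm_num at h5
    · have h3 := ncard_add_le h.pair.le (out_sub (A := A) (B := B) (r := r))
      rcases lower h.pair hr hd with ⟨h4, -⟩ | ⟨rfl, h4⟩ | ⟨rfl, -⟩ | ⟨-, h4⟩
      · exact hr2 h4
      · have h5 := two_mul_ncard_le (A := A) (Y := outElems A B 3) (r := 3) (by decide) fun x hx => by
          have ho : x ^ 3 = 1 := by rw [← ord_out hr hx]; exact pow_orderOf_eq_one x
          refine ⟨hx.1, ho, ?_⟩
          have h1 := card_cent_modEq (N := N) (x := x) (k := 1) hr (by rw [pow_one, ho]) (hAN hx.1)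
          rw [hk] at h1
          have h2 : N ⊓ centralizer ({x} : Set G) ≠ ⊥ := by
            intro e; rw [e, card_bot] at h1; exact absurd h1 (by decide)
          obtain ⟨w, hw, hw1⟩ : ∃ w ∈ N ⊓ centralizer ({x} : Set G), w ≠ 1 := by
            by_contra hc; push Not at hc; exact h2 ((eq_bot_iff_forall _).2 hc)
          exact ⟨w, hNA hw.1, hw1, hz2 w hw.1, (mem_centralizer_singleton_iff.1 hw.2).symm⟩
        omega
      · exact hno 5 (by simp) (hd.trans (Dvd.intro_left _ (card_mul_relIndex h.pair.le)))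
      · omega

theorem exists_sub {S : Subgroup G} {p : ℕ} (hp : p.Prime) (hd : p ∣ Nat.card S) :
    ∃ g ∈ S, orderOf g = p ∧ zpowers g ≤ S ∧ Nat.card (zpowers g) = p := by
  haveI := Fact.mk hp
  obtain ⟨x, hx⟩ := exists_prime_orderOf_dvd_card' (G := S) p hd
  rw [← orderOf_coe] at hx
  exact ⟨x, x.2, hx, zpowers_le.2 x.2, by rw [Nat.card_zpowers, hx]⟩

/-- simple socle -/
theorem nonlocal (h : IsMaxPair A B) {S : Subgroup G} (hSB : S ≤ B)
    (hAS : A ≤ normalizer (S : Set G)) [IsSimpleGroup S]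
    (hS : Nat.card S ∈ [60, 168, 660, 175560]) : False := by
  have hSA : S ≤ A := hSB.trans h.pair.le
  have hm := card_mul_relIndex hSA
  have hmB := card_mul_relIndex h.pair.le
  have hne1 := h.pair.relIndex_ne_one
  have hrel : B.relIndex A ∣ S.relIndex A := relIndex_dvd_of_le_left A hSB
  have hA := card_dvd A
  have fr : ∀ p, p.Prime → p ∣ Nat.card S → ¬ p ^ 2 ∣ Nat.card S → ∀ P ≤ S, Nat.card P = p →
      Nat.card (S ⊓ normalizer (P : Set G) : Subgroup G) * S.relIndex A =
        Nat.card (A ⊓ normalizer (P : Set G) : Subgroup G) :=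
    fun p hp _ h2 P hPS hP => frattini_card (k := 1) hp hPS hSA hAS (by rw [hP, pow_one]) h2
  have frd : ∀ p, p.Prime → p ∣ Nat.card S → ¬ p ^ 2 ∣ Nat.card S → ∀ P ≤ S, Nat.card P = p →
      S.relIndex A ∣ Nat.card (normalizer (P : Set G)) :=
    fun p hp h1 h2 P hPS hP => (Dvd.intro_left _ (fr p hp h1 h2 P hPS hP)).trans
      (card_dvd_of_le inf_le_right)
  simp only [List.mem_cons, List.not_mem_nil, or_false] at hS
  rcases hS with hS | hS | hS | hS
  · obtain ⟨g, hgS, hg, hgle, hgc⟩ := exists_sub (S := S) (p := 5) (by norm_num) (by rw [hS]; norm_num)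
    have h1 := frd 5 (by norm_num) (by rw [hS]; norm_num) (by rw [hS]; norm_num) _ hgle hgc
    rw [(cn5 hgc).2] at h1
    have h2 : S.relIndex A ∣ 2926 := by
      rw [← hm, hS] at hA; exact Nat.dvd_of_mul_dvd_mul_left (by norm_num : 0 < 60) hA
    have h3 : S.relIndex A ∣ 2 := (Nat.dvd_gcd h1 h2)
    have h4 : B.relIndex A = 2 := ((Nat.dvd_prime Nat.prime_two).1 (hrel.trans h3)).resolve_left hne1
    have h5 : S.relIndex A = 2 := Nat.dvd_antisymm h3 (h4 ▸ hrel)
    rcases cases h with ⟨-, h6, -⟩ | ⟨r, hr, hr2, hd, -, -⟩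
    · have h7 := invol_count (X := {x | x ∈ A ∧ x ∉ B}) (I := outElems A B 2) (by norm_num) hg
        (fun x hx => ⟨A.mul_mem hx.1 (hSA hgS), fun hb => hx.2 (by
          simpa using B.mul_mem hb (B.inv_mem (hSB hgS)))⟩)
        fun x hx => ⟨⟨hx.1, hx.2.1⟩, let ⟨_, _, _, hk⟩ := hx; sq_of_two hk⟩
      have h8 := ncard_le_of_two h.pair.le h4 (Y := {x | x ∈ A ∧ x ∉ B}) fun x hx => hx
      rw [local'.cent5 g hg] at h7
      rw [hS, h5] at hm
      omega
    · rw [h4] at hd; exact hr2 ((Nat.prime_dvd_prime_iff_eq hr Nat.prime_two).1 hd)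
  · obtain ⟨g, hgS, hg, hgle, hgc⟩ := exists_sub (S := S) (p := 7) (by norm_num) (by rw [hS]; norm_num)
    have h1 := frd 7 (by norm_num) (by rw [hS]; norm_num) (by rw [hS]; norm_num) _ hgle hgc
    rw [(cn7 hgc).2] at h1
    have h2 : S.relIndex A ∣ 1045 := by
      rw [← hm, hS] at hA; exact Nat.dvd_of_mul_dvd_mul_left (by norm_num : 0 < 168) hA
    exact hne1 (Nat.dvd_one.1 (hrel.trans (Nat.dvd_gcd h1 h2)))
  · obtain ⟨g, hgS, hg, hgle, hgc⟩ := exists_sub (S := S) (p := 11) (by norm_num) (by rw [hS]; norm_num)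
    have h1 := frd 11 (by norm_num) (by rw [hS]; norm_num) (by rw [hS]; norm_num) _ hgle hgc
    rw [(cn11 hgc).2] at h1
    have h2 : S.relIndex A ∣ 266 := by
      rw [← hm, hS] at hA; exact Nat.dvd_of_mul_dvd_mul_left (by norm_num : 0 < 660) hA
    have h3 : S.relIndex A ∣ 2 := (Nat.dvd_gcd h1 h2)
    have h4 : B.relIndex A = 2 := ((Nat.dvd_prime Nat.prime_two).1 (hrel.trans h3)).resolve_left hne1
    have h5 : S.relIndex A = 2 := Nat.dvd_antisymm h3 (h4 ▸ hrel)
    -- the normaliser of a subgroup of order five in `S` has order ten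
    have five : ∀ P ≤ S, Nat.card P = 5 → ¬ 3 ∣ Nat.card (S ⊓ normalizer (P : Set G) : Subgroup G) := by
      intro P hPS hP h3d
      have h6 := fr 5 (by norm_num) (by rw [hS]; norm_num) (by rw [hS]; norm_num) P hPS hP
      have h7 := card_dvd_of_le (inf_le_right : A ⊓ normalizer (P : Set G) ≤ _)
      obtain ⟨n, hn, h8⟩ := sylow_count (k := 1) (by norm_num : Nat.Prime 5) hPS
        (by rw [hP, pow_one]) (by rw [hS]; norm_num)
      have h9 : 5 ∣ Nat.card (S ⊓ normalizer (P : Set G) : Subgroup G) :=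
        hP ▸ card_dvd_of_le (le_inf hPS le_normalizer)
      rw [(cn5 hP).2, ← h6, h5] at h7
      rw [hS] at h8
      have h10 := Nat.le_of_dvd (by norm_num) h7
      have h11 := Nat.card_pos (α := (S ⊓ normalizer (P : Set G) : Subgroup G))
      generalize Nat.card (S ⊓ normalizer (P : Set G) : Subgroup G) = m at *
      have : m = 15 ∨ m = 30 := by omega
      rcases this with rfl | rfl <;> omega
    obtain ⟨w, hwS, hw, hwle, hwc⟩ := exists_sub (S := S) (p := 3) (by norm_num) (by rw [hS]; norm_num)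
    have hw1 : w ≠ 1 := by rintro rfl; simp at hw
    have h6 := fr 3 (by norm_num) (by rw [hS]; norm_num) (by rw [hS]; norm_num) _ hwle hwc
    obtain ⟨n, hn, h8⟩ := sylow_count (k := 1) (by norm_num : Nat.Prime 3) hwle
      (by rw [hwc, pow_one]) (by rw [hS]; norm_num)
    -- `|N_T(w)|` divides 60
    have h60 : Nat.card (normalizer ((zpowers w : Subgroup G) : Set G)) ∣ 60 := by
      have h7 := card_le_one (le_refl (normalizer ((zpowers w : Subgroup G) : Set G))) (mem_zpowers w) hw1
      have h9 := card_le_of_le (inf_le_right :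
        normalizer ((zpowers w : Subgroup G) : Set G) ⊓ centralizer ({w} : Set G) ≤ _)
      have h10 := card_dvd_of_le (centralizer_le_normalizer ((zpowers w : Subgroup G) : Set G))
      rw [cent_zpowers, local'.cent3 w hw] at h10
      rw [local'.cent3 w hw] at h9
      rw [hwc] at h7
      have h11 := Nat.card_pos (α := normalizer ((zpowers w : Subgroup G) : Set G))
      generalize Nat.card (normalizer ((zpowers w : Subgroup G) : Set G)) = m at *
      have : m = 30 ∨ m = 60 := by omega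
      rcases this with rfl | rfl <;> norm_num
    have h7 := (card_dvd_of_le (inf_le_right :
      A ⊓ normalizer ((zpowers w : Subgroup G) : Set G) ≤ _)).trans h60
    rw [← h6, h5] at h7
    have hle : zpowers w ≤ S ⊓ normalizer ((zpowers w : Subgroup G) : Set G) :=
      le_inf hwle le_normalizer
    have h9 : 3 ∣ Nat.card (S ⊓ normalizer ((zpowers w : Subgroup G) : Set G) : Subgroup G) :=
      hwc ▸ card_dvd_of_le hle
    have h10 := Nat.le_of_dvd (by norm_num) h7
    rw [hS] at h8
    have h11 : Nat.card (S ⊓ normalizer ((zpowers w : Subgroup G) : Set G) : Subgroup G) = 3 ∨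
        Nat.card (S ⊓ normalizer ((zpowers w : Subgroup G) : Set G) : Subgroup G) = 30 := by
      generalize Nat.card (S ⊓ normalizer ((zpowers w : Subgroup G) : Set G) : Subgroup G) = m at *
      have : m ≤ 30 := by omega
      interval_cases m <;> omega
    rcases h11 with h11 | h11
    · obtain ⟨s, hs, hsn, x, hx, hne⟩ := burnside_simple (k := 1) (by norm_num : Nat.Prime 3) hwle
        (by rw [hwc, pow_one]) (by rw [hS]; norm_num) one_ne_zero (by rw [hS]; norm_num)
      have he := eq_of_le_of_card_ge hle (by rw [h11, hwc])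
      have hs' : s ∈ zpowers w := he ▸ ⟨hs, hsn⟩
      obtain ⟨a, rfl⟩ := hs'
      obtain ⟨b, rfl⟩ := hx
      exact hne ((Commute.refl w).zpow_zpow b a).eq
    · obtain ⟨v, hv, hvo, hvle, hvc⟩ := exists_sub (p := 5) (by norm_num) (h11 ▸ (by norm_num : 5 ∣ 30))
      have h12 := card_cent_modEq (N := zpowers w) (x := v) (k := 1) (by norm_num : Nat.Prime 5)
        (by rw [pow_one, ← hvo, pow_orderOf_eq_one]) hv.2
      have h13 := card_le_of_le (inf_le_left : zpowers w ⊓ centralizer ({v} : Set G) ≤ _)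
      have h14 := eq_of_le_of_card_ge (inf_le_left : zpowers w ⊓ centralizer ({v} : Set G) ≤ _) (by
        unfold Nat.ModEq at h12
        rw [hwc] at h12 h13 ⊢
        omega)
      have h15 : w ∈ centralizer ({v} : Set G) := (h14.ge (mem_zpowers w)).2
      refine five _ (hvle.trans inf_le_left) hvc (hw ▸ orderOf_dvd_natCard _ ⟨hwS, ?_⟩)
      rw [← cent_zpowers] at h15
      exact centralizer_le_normalizer _ h15
  · refine h.pair.1 (top_le_iff.1 ?_)
    rw [← eq_top_of_card_eq S (hS.trans cardG.symm)]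
    exact hSA

theorem main (hb : H940.Eng.Base) : ¬ Pair Spor.J1 := by
  rintro ⟨A, B₀, h₀⟩
  obtain ⟨B, -, h⟩ := h₀.exists_max
  obtain ⟨N, hNB, hN0, hAN, -, hN⟩ := exists_minN h.pair.le (le_normalizer_B h.pair) (B_ne_bot h.pair)
  rcases hN with ⟨p, hp⟩ | ⟨S, hSN, hSs, hna, hS⟩
  · by_cases h2 : p = 2
    · subst h2; exact two_local h hNB hN0 hAN hp
    haveI := Fact.mk hp.1
    have hP : IsPGroup p N := fun x => ⟨1, Subtype.ext (by simpa using hp.2.2 x x.2)⟩
    obtain ⟨k, hk⟩ := IsPGroup.iff_card.1 hP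
    rcases k with _ | _ | k
    · exact hN0 (card_eq_one.1 hk)
    · exact odd_local h hNB hAN hp.1 h2 (by simpa using hk)
    · have h3 : p ^ 2 ∣ 175560 := (pow_dvd_pow p (by omega)).trans (hk ▸ card_dvd N)
      rcases prime_cases hp.1 ((dvd_pow_self p two_ne_zero).trans h3) with
        rfl | rfl | rfl | rfl | rfl | rfl <;> simp_all
  · have ho := H940.Eng.D.ords_j1 hb S hSs hna (card_dvd S)
    rcases hS with rfl | ⟨S', hS'N, ⟨a, -, rfl⟩, hd, hc⟩
    · exact nonlocal h hNB hAN ho
    · have h1 := (card_mul_dvd hSN hS'N hd hc).trans (card_dvd N)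
      rw [card_map_conj] at h1
      simp only [H940.Eng.D.o_j1, List.mem_cons, List.not_mem_nil, or_false] at ho
      rcases ho with e | e | e | e <;> rw [e] at h1 <;> norm_num at h1

end Cfsg.Agent.SP.NegS.J1
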