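import Mathlib

/-! # A pruned search through a stabiliser chain

`NA G`: a faithful action of `G` on the numbers below `n`, with packed tables.
`enum`: the words in the transversals of a stabiliser chain which pass the tests. -/

set_option autoImplicit false

namespace Cfsg.Agent.SP.NegS.Eng

/-- A faithful action on the numbers below `n`. -/
structure NA (G : Type*) [Group G] where
  n : ℕ
  act : G → ℕ → ℕ
  app : ℕ → ℕ → ℕ
  lt : ∀ g i, i < n → act g i < n
  mul : ∀ g h i, i < n → act (g * h) i = act g (act h i)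
  one : ∀ i, i < n → act 1 i = i
  ext : ∀ g h, (∀ i, i < n → act g i = act h i) → g = h

/-- image under a word (the first letter acts first) -/
def apW (app : ℕ → ℕ → ℕ) : List ℕ → ℕ → ℕ
  | [], i => i
  | u :: w, i => apW app w (app u i)

theorem apW_realised : True := by have := @apW.eq_def; trivial

/-- the search -/
def enum (app : ℕ → ℕ → ℕ) (pr : ℕ → ℕ → Bool) (fl : List ℕ → Bool) :
    List (ℕ × List ℕ) → List ℕ → List (List ℕ) → List (List ℕ)
  | [], w, acc => cond (fl w) (w :: acc) acc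
  | l :: L, w, acc => l.2.foldr
      (fun u acc' => cond (pr l.1 (apW app w (app u l.1))) (enum app pr fl L (u :: w) acc') acc') acc

theorem enum_realised : True := by have := @enum.eq_def; trivial

/-- strictly increasing -/
def incr : ℕ → List ℕ → Bool
  | _, [] => true
  | lo, a :: l => Nat.ble lo a && incr (a + 1) l

theorem incr_realised : True := by have := @incr.eq_def; trivial

theorem incr_spec : ∀ (l : List ℕ) (lo : ℕ), incr lo l = true → l.Nodup ∧ ∀ a ∈ l, lo ≤ a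
  | [], _, _ => ⟨List.nodup_nil, fun _ h => absurd h List.not_mem_nil⟩
  | a :: l, lo, h => by
    rw [incr, Bool.and_eq_true, Nat.ble_eq] at h
    obtain ⟨h1, h2⟩ := incr_spec l _ h.2
    refine ⟨List.nodup_cons.2 ⟨fun ha => by have := h2 a ha; omega, h1⟩, fun b hb => ?_⟩
    rcases List.mem_cons.1 hb with rfl | hb
    · exact h.1
    · have := h2 b hb; omega

/-- the shape of a chain -/
def valid (app : ℕ → ℕ → ℕ) (n : ℕ) : List (ℕ × List ℕ) → Bool
  | [] => true
  | l :: L => Nat.blt l.1 n && (incr 0 (l.2.map fun u => app u l.1) &&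
      ((L.all fun m => m.2.all fun u => Nat.beq (app u l.1) l.1) && valid app n L))

theorem valid_realised : True := by have := @valid.eq_def; trivial

/-- `p i` for all `i < n` -/
def allB (p : ℕ → Bool) : ℕ → Bool
  | 0 => true
  | n + 1 => p n && allB p n

theorem allB_realised : True := by have := @allB.eq_def; trivial

theorem allB_iff {p : ℕ → Bool} : ∀ {n : ℕ}, allB p n = true ↔ ∀ i, i < n → p i = true
  | 0 => by simp [allB]
  | n + 1 => by
    rw [allB, Bool.and_eq_true, allB_iff]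
    constructor
    · rintro ⟨h1, h2⟩ i hi
      rcases Nat.lt_succ_iff_lt_or_eq.1 hi with h | rfl
      · exact h2 i h
      · exact h1
    · intro h; exact ⟨h n n.lt_succ_self, fun i hi => h i (Nat.lt_succ_of_lt hi)⟩

variable {G : Type*} [Group G] (M : NA G)

/-- the table `P` describes `g` -/
def NA.Rep (P : ℕ) (g : G) : Prop := ∀ i, i < M.n → M.app P i = M.act g i

/-- the word `w` describes `g` -/
def NA.Ag (w : List ℕ) (g : G) : Prop := ∀ i, i < M.n → apW M.app w i = M.act g i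

/-- decomposition along a chain -/
def NA.Dec : List (ℕ × List ℕ) → G → Prop
  | [], g => g = 1
  | l :: L, g => ∃ u ∈ l.2, ∃ a h, M.Rep u a ∧ NA.Dec L h ∧ M.act h l.1 = l.1 ∧ g = a * h

/-- the chain is complete -/
def NA.Complete (L : List (ℕ × List ℕ)) : Prop := (∀ l ∈ L, l.1 < M.n) ∧ ∀ g, M.Dec L g

variable {M}

theorem NA.Rep.eq {P : ℕ} {g h : G} (hg : M.Rep P g) (hh : M.Rep P h) : g = h :=
  M.ext _ _ fun i hi => (hg i hi).symm.trans (hh i hi)

theorem NA.Ag.eq {w : List ℕ} {g h : G} (hg : M.Ag w g) (hh : M.Ag w h) : g = h :=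
  M.ext _ _ fun i hi => (hg i hi).symm.trans (hh i hi)

theorem NA.ag_nil : M.Ag [] 1 := fun i hi => (M.one i hi).symm

theorem NA.Ag.cons {w : List ℕ} {g a : G} {u : ℕ} (hg : M.Ag w g) (ha : M.Rep u a) :
    M.Ag (u :: w) (g * a) := fun i hi => by
  rw [apW, ha i hi, hg _ (M.lt _ _ hi), M.mul _ _ _ hi]

theorem NA.act_inv (g : G) {i : ℕ} (hi : i < M.n) : M.act g⁻¹ (M.act g i) = i := by
  rw [← M.mul _ _ _ hi, inv_mul_cancel, M.one i hi]

theorem NA.act_inv' (g : G) {i : ℕ} (hi : i < M.n) : M.act g (M.act g⁻¹ i) = i := by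
  rw [← M.mul _ _ _ hi, mul_inv_cancel, M.one i hi]

theorem NA.inj (g : G) {i j : ℕ} (hi : i < M.n) (hj : j < M.n) (h : M.act g i = M.act g j) :
    i = j := by rw [← NA.act_inv g hi, h, NA.act_inv g hj]

theorem fix_of_dec {b : ℕ} (hb : b < M.n) : ∀ (L : List (ℕ × List ℕ)) (g : G),
    (∀ m ∈ L, ∀ u ∈ m.2, M.app u b = b) → M.Dec L g → M.act g b = b
  | [], g, _, h => by rw [show g = 1 from h]; exact M.one b hb
  | l :: L, g, hL, h => by
    obtain ⟨u, hu, a, h, ha, hd, -, rfl⟩ := h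
    rw [M.mul _ _ _ hb, fix_of_dec hb L h (fun m hm => hL m (List.mem_cons_of_mem _ hm)) hd,
      ← ha b hb, hL l List.mem_cons_self u hu]

theorem le_ncard_dec [Finite G] : ∀ L : List (ℕ × List ℕ), valid M.app M.n L = true →
    (∀ l ∈ L, ∀ u ∈ l.2, ∃ a, M.Rep u a) →
    (L.map fun l => l.2.length).prod ≤ {g | M.Dec L g}.ncard
  | [], _, _ => by
    have : {g | M.Dec [] g} = {1} := rfl
    rw [this]; simp
  | l :: L, hv, hL => by
    rw [valid, Bool.and_eq_true, Bool.and_eq_true, Bool.and_eq_true, Nat.blt_eq] at hv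
    obtain ⟨hb, h1, h2, h3⟩ := hv
    have ih := le_ncard_dec L h3 fun m hm => hL m (List.mem_cons_of_mem _ hm)
    have hfix : ∀ h, M.Dec L h → M.act h l.1 = l.1 := fun h hh => fix_of_dec hb L h (fun m hm u hu =>
      Nat.eq_of_beq_eq_true (List.all_eq_true.1 (List.all_eq_true.1 h2 m hm) u hu)) hh
    have hnd := (incr_spec _ _ h1).1
    choose! a ha using hL l List.mem_cons_self
    have hinj : Set.InjOn (fun p : ℕ × G => a p.1 * p.2) ((l.2.toFinset : Set ℕ) ×ˢ {g | M.Dec L g}) := by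
      rintro ⟨u, h⟩ ⟨hu, hh⟩ ⟨u', h'⟩ ⟨hu', hh'⟩ e
      have hu1 : u ∈ l.2 := by simpa using hu
      have hu2 : u' ∈ l.2 := by simpa using hu'
      have e' : a u * h = a u' * h' := e
      have e1 := congrArg (fun g => M.act g l.1) e'
      simp only [M.mul _ _ _ hb] at e1
      rw [hfix h hh, hfix h' hh', ← ha u hu1 _ hb, ← ha u' hu2 _ hb] at e1
      have e2 : u = u' := List.inj_on_of_nodup_map hnd hu1 hu2 e1
      subst e2
      rw [mul_left_cancel e']
    rw [List.map_cons, List.prod_cons]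
    calc l.2.length * (L.map fun l => l.2.length).prod
        ≤ ((l.2.toFinset : Set ℕ) ×ˢ {g | M.Dec L g}).ncard := by
          rw [Set.ncard_prod, Set.ncard_coe_finset, List.toFinset_card_of_nodup hnd.of_map]
          exact Nat.mul_le_mul_left _ ih
      _ = _ := hinj.ncard_image.symm
      _ ≤ _ := by
          refine Set.ncard_le_ncard ?_
          rintro _ ⟨⟨u, h⟩, ⟨hu, hh⟩, rfl⟩
          have hu1 : u ∈ l.2 := by simpa using hu
          exact ⟨u, hu1, a u, h, ha u hu1, hh, hfix h hh, rfl⟩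

theorem lt_of_valid {app : ℕ → ℕ → ℕ} {n : ℕ} : ∀ L : List (ℕ × List ℕ), valid app n L = true →
    ∀ l ∈ L, l.1 < n
  | [], _, _, h => absurd h List.not_mem_nil
  | l :: L, hv, m, hm => by
    rw [valid, Bool.and_eq_true, Bool.and_eq_true, Bool.and_eq_true, Nat.blt_eq] at hv
    rcases List.mem_cons.1 hm with rfl | hm
    · exact hv.1
    · exact lt_of_valid L hv.2.2.2 m hm

/-- Completeness by counting. -/
theorem complete_of_card [Finite G] {L : List (ℕ × List ℕ)} (hv : valid M.app M.n L = true)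
    (hL : ∀ l ∈ L, ∀ u ∈ l.2, ∃ a, M.Rep u a)
    (hc : Nat.card G ≤ (L.map fun l => l.2.length).prod) : M.Complete L := by
  refine ⟨lt_of_valid L hv, fun g => ?_⟩
  have h1 := hc.trans (le_ncard_dec L hv hL)
  have h2 : {g | M.Dec L g} = Set.univ :=
    Set.eq_of_subset_of_ncard_le (Set.subset_univ _) (by rwa [Set.ncard_univ])
  exact (h2.symm ▸ Set.mem_univ g : g ∈ {g | M.Dec L g})

theorem acc_sub {app : ℕ → ℕ → ℕ} {pr : ℕ → ℕ → Bool} {fl : List ℕ → Bool} {x : List ℕ} :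
    ∀ (L : List (ℕ × List ℕ)) (w : List ℕ) (acc : List (List ℕ)), x ∈ acc →
      x ∈ enum app pr fl L w acc
  | [], w, acc, h => by
    rw [enum]
    cases fl w
    · exact h
    · exact List.mem_cons_of_mem _ h
  | l :: L, w, acc, h => by
    rw [enum]
    induction l.2 with
    | nil => exact h
    | cons u U ih =>
      rw [List.foldr_cons]
      cases pr l.1 (apW app w (app u l.1))
      · exact ih
      · exact acc_sub L _ _ ih

theorem enum_sound {pr : ℕ → ℕ → Bool} {fl : List ℕ → Bool} {g : G}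
    (hpr : ∀ i, i < M.n → pr i (M.act g i) = true) (hfl : ∀ w, M.Ag w g → fl w = true) :
    ∀ (L : List (ℕ × List ℕ)) (w : List ℕ) (acc : List (List ℕ)) (c h : G), (∀ l ∈ L, l.1 < M.n) →
      M.Ag w c → M.Dec L h → g = c * h → ∃ x ∈ enum M.app pr fl L w acc, M.Ag x g
  | [], w, acc, c, h, _, hc, hh, e => by
    rw [show h = 1 from hh, mul_one] at e
    subst e
    rw [enum, hfl w hc]
    exact ⟨w, List.mem_cons_self, hc⟩
  | l :: L, w, acc, c, h, hL, hc, hh, e => by
    obtain ⟨u, hu, a, h, ha, hd, hfix, rfl⟩ := hh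
    have hb := hL l List.mem_cons_self
    have h1 : pr l.1 (apW M.app w (M.app u l.1)) = true := by
      have := hpr l.1 hb
      rwa [e, M.mul _ _ _ hb, M.mul _ _ _ hb, hfix, ← hc _ (M.lt _ _ hb), ← ha _ hb] at this
    rw [enum]
    generalize l.2 = U at hu
    induction U with
    | nil => exact absurd hu List.not_mem_nil
    | cons v U ih =>
      rw [List.foldr_cons]
      rcases List.mem_cons.1 hu with rfl | hu
      · rw [h1]
        exact enum_sound hpr hfl L _ _ (c * a) h (fun m hm => hL m (List.mem_cons_of_mem _ hm))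
          (hc.cons ha) hd (by rw [e, mul_assoc])
      · obtain ⟨x, hx, hxg⟩ := ih hu
        refine ⟨x, ?_, hxg⟩
        cases pr l.1 (apW M.app w (M.app v l.1))
        · exact hx
        · exact acc_sub L _ _ hx

/-- **The search is complete.** -/
theorem mem_enum {L : List (ℕ × List ℕ)} (hC : M.Complete L) {pr : ℕ → ℕ → Bool}
    {fl : List ℕ → Bool} {g : G} (hpr : ∀ i, i < M.n → pr i (M.act g i) = true)
    (hfl : ∀ w, M.Ag w g → fl w = true) : ∃ x ∈ enum M.app pr fl L [] [], M.Ag x g :=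
  enum_sound hpr hfl L [] [] 1 g hC.1 NA.ag_nil (hC.2 g) (one_mul g).symm

theorem run {L : List (ℕ × List ℕ)} (hC : M.Complete L) {pr : ℕ → ℕ → Bool}
    {fl Q : List ℕ → Bool} (h : (enum M.app pr fl L [] []).all Q = true) {g : G}
    (hpr : ∀ i, i < M.n → pr i (M.act g i) = true) (hfl : ∀ w, M.Ag w g → fl w = true) :
    ∃ w, M.Ag w g ∧ Q w = true :=
  let ⟨x, hx, hg⟩ := mem_enum hC hpr hfl
  ⟨x, hg, List.all_eq_true.1 h x hx⟩

/-- Counting form. -/
theorem ncard_le {L : List (ℕ × List ℕ)} (hC : M.Complete L) {pr : ℕ → ℕ → Bool}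
    {fl : List ℕ → Bool} {S : Set G} (hpr : ∀ g ∈ S, ∀ i, i < M.n → pr i (M.act g i) = true)
    (hfl : ∀ g ∈ S, ∀ w, M.Ag w g → fl w = true) :
    S.ncard ≤ (enum M.app pr fl L [] []).length := by
  classical
  choose! f hf hg using fun g (hg : g ∈ S) => mem_enum hC (hpr g hg) (hfl g hg)
  refine le_trans ?_ (List.toFinset_card_le (enum M.app pr fl L [] []))
  rw [← Set.ncard_coe_finset]
  exact Set.ncard_le_ncard_of_injOn f (fun g h => by simpa using hf g h)
    fun g h g' h' e => (hg g h).eq (e ▸ hg g' h')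

/-- A set of group elements described by a list of tables has at most the length of the list. -/
theorem ncard_le_length {S : Set G} {K : List ℕ} (h : ∀ g ∈ S, ∃ k ∈ K, M.Rep k g) :
    S.ncard ≤ K.length := by
  classical
  choose! f hf hg using h
  refine le_trans ?_ (List.toFinset_card_le K)
  rw [← Set.ncard_coe_finset]
  exact Set.ncard_le_ncard_of_injOn f (fun g h => by simpa using hf g h)
    fun g h g' h' e => (hg g h).eq (e ▸ hg g' h')

/-- the word agrees with a table -/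
def agr (app : ℕ → ℕ → ℕ) (n : ℕ) (w : List ℕ) (k : ℕ) : Bool :=
  allB (fun i => Nat.beq (apW app w i) (app k i)) n

theorem rep_of_agr {w : List ℕ} {k : ℕ} {g : G} (hw : M.Ag w g) (h : agr M.app M.n w k = true) :
    M.Rep k g := fun i hi => by
  rw [← hw i hi]; exact (Nat.eq_of_beq_eq_true (allB_iff.1 h i hi)).symm

/-- equality of two words -/
def weq (app : ℕ → ℕ → ℕ) (n : ℕ) (w v : List ℕ) : Bool :=
  allB (fun i => Nat.beq (apW app w i) (apW app v i)) n

theorem eq_of_weq {w v : List ℕ} {g h : G} (hw : M.Ag w g) (hv : M.Ag v h)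
    (e : weq M.app M.n w v = true) : g = h := M.ext _ _ fun i hi => by
  rw [← hw i hi, ← hv i hi]; exact Nat.eq_of_beq_eq_true (allB_iff.1 e i hi)

theorem weq_of_eq {w v : List ℕ} {g : G} (hw : M.Ag w g) (hv : M.Ag v g) :
    weq M.app M.n w v = true := allB_iff.2 fun i hi => by
  rw [hw i hi, hv i hi]; exact Nat.beq_refl _

theorem NA.Rep.ag {P : ℕ} {g : G} (h : M.Rep P g) : M.Ag [P] g := h

theorem NA.Rep.ag2 {P Q : ℕ} {g h : G} (hg : M.Rep P g) (hh : M.Rep Q h) : M.Ag [Q, P] (g * h) :=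
  hg.ag.cons hh

theorem NA.Ag.append {w v : List ℕ} {g h : G} (hw : M.Ag w g) (hv : M.Ag v h) :
    M.Ag (v ++ w) (g * h) := by
  have key : ∀ (v : List ℕ) (i : ℕ), apW M.app (v ++ w) i = apW M.app w (apW M.app v i) := by
    intro v
    induction v with
    | nil => intro i; rfl
    | cons u v ih => intro i; exact ih _
  intro i hi
  rw [key, hv i hi, hw _ (M.lt _ _ hi), M.mul _ _ _ hi]

/-! ### sets of elements invariant under conjugation -/

/-- the elements described by a list of tables -/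
def NA.S (M : NA G) (L : List ℕ) : Set G := {g | ∃ P ∈ L, M.Rep P g}

/-- `x` normalises the set `S` -/
def Nrm (S : Set G) (x : G) : Prop := ∀ s ∈ S, x * s * x⁻¹ ∈ S ∧ x⁻¹ * s * x ∈ S

/-- colour of a point: fixed by all, fixed by some -/
def col (app : ℕ → ℕ → ℕ) (L : List ℕ) (i : ℕ) : ℕ :=
  cond (L.all fun P => Nat.beq (app P i) i) 2 (cond (L.any fun P => Nat.beq (app P i) i) 1 0)

theorem col_act {L : List ℕ} (hL : ∀ P ∈ L, ∃ g, M.Rep P g) {x : G} (hx : Nrm (M.S L) x) {i : ℕ}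
    (hi : i < M.n) : col M.app L (M.act x i) = col M.app L i := by
  have hxi := M.lt x i hi
  have k1 : ∀ P ∈ L, ∃ P' ∈ L, (M.app P (M.act x i) = M.act x i ↔ M.app P' i = i) := by
    intro P hP
    obtain ⟨g, hg⟩ := hL P hP
    obtain ⟨P', hP', h'⟩ := (hx g ⟨P, hP, hg⟩).2
    refine ⟨P', hP', ?_⟩
    rw [hg _ hxi, h' i hi, M.mul _ _ _ hi, M.mul _ _ _ hxi]
    constructor
    · intro h; rw [h, NA.act_inv x hi]
    · intro h
      have := congrArg (M.act x) h
      rwa [NA.act_inv' x (M.lt _ _ hxi)] at this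
  have k2 : ∀ P ∈ L, ∃ P' ∈ L, (M.app P' (M.act x i) = M.act x i ↔ M.app P i = i) := by
    intro P hP
    obtain ⟨g, hg⟩ := hL P hP
    obtain ⟨P', hP', h'⟩ := (hx g ⟨P, hP, hg⟩).1
    refine ⟨P', hP', ?_⟩
    rw [hg _ hi, h' _ hxi, M.mul _ _ _ hxi, NA.act_inv x hi, M.mul _ _ _ hi]
    exact ⟨fun h => NA.inj x (M.lt _ _ hi) hi h, fun h => by rw [h]⟩
  have e1 : (L.all fun P => Nat.beq (M.app P (M.act x i)) (M.act x i)) =
      L.all fun P => Nat.beq (M.app P i) i := by
    rw [Bool.eq_iff_iff, List.all_eq_true, List.all_eq_true]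
    simp only [Nat.beq_eq]
    constructor
    · intro h P hP; obtain ⟨P', hP', e⟩ := k2 P hP; exact e.1 (h P' hP')
    · intro h P hP; obtain ⟨P', hP', e⟩ := k1 P hP; exact e.2 (h P' hP')
  have e2 : (L.any fun P => Nat.beq (M.app P (M.act x i)) (M.act x i)) =
      L.any fun P => Nat.beq (M.app P i) i := by
    rw [Bool.eq_iff_iff, List.any_eq_true, List.any_eq_true]
    simp only [Nat.beq_eq]
    constructor
    · rintro ⟨P, hP, h⟩; obtain ⟨P', hP', e⟩ := k1 P hP; exact ⟨P', hP', e.1 h⟩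
    · rintro ⟨P, hP, h⟩; obtain ⟨P', hP', e⟩ := k2 P hP; exact ⟨P', hP', e.2 h⟩
  rw [col, col, e1, e2]

/-- the word normalises the list, tested at the points of `ps` -/
def nz (app : ℕ → ℕ → ℕ) (L ps : List ℕ) (w : List ℕ) : Bool :=
  L.all fun P => L.any fun P' => ps.all fun p => Nat.beq (apW app w (app P p)) (app P' (apW app w p))

theorem nz_of {L ps : List ℕ} (hL : ∀ P ∈ L, ∃ g, M.Rep P g) (hps : ∀ p ∈ ps, p < M.n) {x : G}
    (hx : Nrm (M.S L) x) {w : List ℕ} (hw : M.Ag w x) : nz M.app L ps w = true := by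
  refine List.all_eq_true.2 fun P hP => ?_
  obtain ⟨g, hg⟩ := hL P hP
  obtain ⟨P', hP', h'⟩ := (hx g ⟨P, hP, hg⟩).1
  refine List.any_eq_true.2 ⟨P', hP', List.all_eq_true.2 fun p hp => ?_⟩
  have h1 := hps p hp
  have h2 := M.lt x p h1
  rw [hg p h1, hw _ (M.lt _ _ h1), hw p h1, h' _ h2, M.mul _ _ _ h2, NA.act_inv x h1, M.mul _ _ _ h1]
  exact Nat.beq_refl _

/-- `L'` is the conjugate of `L` by `t` -/
def cjL (app : ℕ → ℕ → ℕ) (n t : ℕ) : List ℕ → List ℕ → Bool
  | [], [] => true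
  | P :: L, P' :: L' => weq app n [P, t] [t, P'] && cjL app n t L L'
  | _, _ => false

theorem cjL_realised : True := by have := @cjL.eq_def; trivial

theorem rep_conj {t P P' : ℕ} {τ g : G} (ht : M.Rep t τ) (hg : M.Rep P g)
    (h : weq M.app M.n [P, t] [t, P'] = true) : M.Rep P' (τ * g * τ⁻¹) := by
  intro i hi
  have h1 := M.lt τ⁻¹ i hi
  have h2 := Nat.eq_of_beq_eq_true (allB_iff.1 h _ h1)
  simp only [apW] at h2
  rw [ht _ h1, NA.act_inv' τ hi, hg _ h1, ht _ (M.lt _ _ h1)] at h2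
  rw [← h2, M.mul _ _ _ hi, M.mul _ _ _ h1]

theorem cjL_spec {t : ℕ} {τ : G} (ht : M.Rep t τ) : ∀ L L' : List ℕ, cjL M.app M.n t L L' = true →
    (∀ P ∈ L, ∃ g, M.Rep P g) →
    (∀ P' ∈ L', ∃ P ∈ L, ∃ g, M.Rep P g ∧ M.Rep P' (τ * g * τ⁻¹)) ∧
      ∀ P ∈ L, ∀ g, M.Rep P g → ∃ P' ∈ L', M.Rep P' (τ * g * τ⁻¹)
  | [], [], _, _ => ⟨fun _ h => absurd h List.not_mem_nil, fun _ h => absurd h List.not_mem_nil⟩
  | [], _ :: _, h, _ => by simp [cjL] at h
  | _ :: _, [], h, _ => by simp [cjL] at h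
  | P :: L, P' :: L', h, hL => by
    rw [cjL, Bool.and_eq_true] at h
    obtain ⟨h1, h2⟩ := cjL_spec ht L L' h.2 fun Q hQ => hL Q (List.mem_cons_of_mem _ hQ)
    constructor
    · intro Q' hQ'
      rcases List.mem_cons.1 hQ' with rfl | hQ'
      · obtain ⟨g, hg⟩ := hL P List.mem_cons_self
        exact ⟨P, List.mem_cons_self, g, hg, rep_conj ht hg h.1⟩
      · obtain ⟨Q, hQ, h3⟩ := h1 Q' hQ'
        exact ⟨Q, List.mem_cons_of_mem _ hQ, h3⟩
    · intro Q hQ g hg
      rcases List.mem_cons.1 hQ with rfl | hQ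
      · exact ⟨P', List.mem_cons_self, rep_conj ht hg h.1⟩
      · obtain ⟨Q', hQ', h3⟩ := h2 Q hQ g hg
        exact ⟨Q', List.mem_cons_of_mem _ hQ', h3⟩

theorem cjL_in {t : ℕ} {τ : G} (ht : M.Rep t τ) {L L' : List ℕ} (h : cjL M.app M.n t L L' = true)
    (hL : ∀ P ∈ L, ∃ g, M.Rep P g) : ∀ P' ∈ L', ∃ g, M.Rep P' g := fun P' hP' =>
  let ⟨_, _, _, _, h⟩ := (cjL_spec ht L L' h hL).1 P' hP'
  ⟨_, h⟩

theorem mem_S_conj {t : ℕ} {τ : G} (ht : M.Rep t τ) {L L' : List ℕ} (h : cjL M.app M.n t L L' = true)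
    (hL : ∀ P ∈ L, ∃ g, M.Rep P g) {g : G} : g ∈ M.S L' ↔ τ⁻¹ * g * τ ∈ M.S L := by
  obtain ⟨h1, h2⟩ := cjL_spec ht L L' h hL
  constructor
  · rintro ⟨P', hP', hg⟩
    obtain ⟨P, hP, a, ha, ha'⟩ := h1 P' hP'
    rw [hg.eq ha']
    exact ⟨P, hP, by simpa [mul_assoc] using ha⟩
  · rintro ⟨P, hP, hg⟩
    obtain ⟨P', hP', h'⟩ := h2 P hP _ hg
    exact ⟨P', hP', by simpa [mul_assoc] using h'⟩

theorem nrm_conj {t : ℕ} {τ : G} (ht : M.Rep t τ) {L L' : List ℕ} (h : cjL M.app M.n t L L' = true)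
    (hL : ∀ P ∈ L, ∃ g, M.Rep P g) {x : G} (hx : Nrm (M.S L) (τ⁻¹ * x * τ)) : Nrm (M.S L') x := by
  intro s hs
  rw [mem_S_conj ht h hL] at hs
  rw [mem_S_conj ht h hL, mem_S_conj ht h hL]
  have := hx _ hs
  constructor
  · convert this.1 using 1; group
  · convert this.2 using 1; group

/-- colour table: two bits per point -/
def ct (c i : ℕ) : ℕ := (c >>> (2 * i)) % 4

/-- **Two normalised sets.**  `c`, `c'` are the colour tables of `L`, `L'`. -/
def chk2 (app : ℕ → ℕ → ℕ) (n : ℕ) (C : List (ℕ × List ℕ)) (L L' ps : List ℕ) (t c c' : ℕ)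
    (Q : List ℕ → Bool) : Bool :=
  cjL app n t L L' && ((ps.all fun p => Nat.blt p n) &&
    (allB (fun i => Nat.beq (col app L i) (ct c i) && Nat.beq (col app L' i) (ct c' i)) n &&
    (enum app (fun i j => Nat.beq (ct c i) (ct c j) && Nat.beq (ct c' i) (ct c' j))
      (fun w => allB (fun i => Nat.beq (ct c i) (ct c (apW app w i)) &&
        Nat.beq (ct c' i) (ct c' (apW app w i))) n && (nz app L ps w && nz app L' ps w))
      C [] []).all Q))

theorem run2 {C : List (ℕ × List ℕ)} (hC : M.Complete C) {L L' ps : List ℕ} {t c c' : ℕ}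
    {Q : List ℕ → Bool} (h : chk2 M.app M.n C L L' ps t c c' Q = true)
    (hL : ∀ P ∈ L, ∃ g, M.Rep P g) {τ : G} (ht : M.Rep t τ) {x : G} (hx : Nrm (M.S L) x)
    (hx' : Nrm (M.S L) (τ⁻¹ * x * τ)) : ∃ w, M.Ag w x ∧ Q w = true := by
  rw [chk2, Bool.and_eq_true, Bool.and_eq_true, Bool.and_eq_true] at h
  obtain ⟨h1, h2, h3, h4⟩ := h
  have hL' := cjL_in ht h1 hL
  have hx'' := nrm_conj ht h1 hL hx'
  have hps : ∀ p ∈ ps, p < M.n := fun p hp => Nat.blt_eq.mp (List.all_eq_true.1 h2 p hp)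
  have hc : ∀ i, i < M.n → col M.app L i = ct c i ∧ col M.app L' i = ct c' i := fun i hi => by
    have := allB_iff.1 h3 i hi
    rw [Bool.and_eq_true] at this
    exact ⟨Nat.eq_of_beq_eq_true this.1, Nat.eq_of_beq_eq_true this.2⟩
  have hpr : ∀ i, i < M.n → (Nat.beq (ct c i) (ct c (M.act x i)) &&
      Nat.beq (ct c' i) (ct c' (M.act x i))) = true := fun i hi => by
    have hxi := M.lt x i hi
    rw [← (hc i hi).1, ← (hc i hi).2, ← (hc _ hxi).1, ← (hc _ hxi).2, col_act hL hx hi,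
      col_act hL' hx'' hi, Nat.beq_refl, Nat.beq_refl]
    rfl
  refine run hC h4 hpr fun w hw => ?_
  rw [nz_of hL hps hx hw, nz_of hL' hps hx'' hw, allB_iff.2 fun i hi => by rw [hw i hi]; exact hpr i hi]
  rfl

/-- **One normalised set.** -/
def chk1 (app : ℕ → ℕ → ℕ) (n : ℕ) (C : List (ℕ × List ℕ)) (L ps : List ℕ) (c : ℕ)
    (Q : List ℕ → Bool) : Bool :=
  (ps.all fun p => Nat.blt p n) &&
    (allB (fun i => Nat.beq (col app L i) (ct c i)) n &&
    (enum app (fun i j => Nat.beq (ct c i) (ct c j))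
      (fun w => nz app L ps w && allB (fun i => Nat.beq (ct c i) (ct c (apW app w i))) n)
      C [] []).all Q)

theorem run1 {C : List (ℕ × List ℕ)} (hC : M.Complete C) {L ps : List ℕ} {c : ℕ}
    {Q : List ℕ → Bool} (h : chk1 M.app M.n C L ps c Q = true)
    (hL : ∀ P ∈ L, ∃ g, M.Rep P g) {x : G} (hx : Nrm (M.S L) x) : ∃ w, M.Ag w x ∧ Q w = true := by
  rw [chk1, Bool.and_eq_true, Bool.and_eq_true] at h
  obtain ⟨h2, h3, h4⟩ := h
  have hps : ∀ p ∈ ps, p < M.n := fun p hp => Nat.blt_eq.mp (List.all_eq_true.1 h2 p hp)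
  have hc : ∀ i, i < M.n → col M.app L i = ct c i := fun i hi =>
    Nat.eq_of_beq_eq_true (allB_iff.1 h3 i hi)
  have hpr : ∀ i, i < M.n → Nat.beq (ct c i) (ct c (M.act x i)) = true := fun i hi => by
    rw [← hc i hi, ← hc _ (M.lt x i hi), col_act hL hx hi, Nat.beq_refl]
  refine run hC h4 hpr fun w hw => ?_
  rw [nz_of hL hps hx hw, allB_iff.2 fun i hi => by rw [hw i hi]; exact hpr i hi]
  rfl

theorem mem_S_of_any {K w : List ℕ} {x : G} (hw : M.Ag w x)
    (h : (K.any fun k => agr M.app M.n w k) = true) : x ∈ M.S K :=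
  let ⟨k, hk, h⟩ := List.any_eq_true.1 h
  ⟨k, hk, rep_of_agr hw h⟩

end Cfsg.Agent.SP.NegS.Eng
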