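import Cfsg.Agent.SP.NegS.Engine
import Cfsg.Agent.SP.NegS.Gen

/-! # Orbits, fixed points and invariant regions for numeric actions -/

set_option autoImplicit false
set_option linter.style.haveILetI false

namespace Cfsg.Agent.SP.NegS.Eng

open Subgroup Cfsg.Agent.SP Cfsg.Agent.SP.NegS

/-- number of `i < n` with `p i` -/
def cnt (p : ℕ → Bool) : ℕ → ℕ
  | 0 => 0
  | n + 1 => cond (p n) (cnt p n + 1) (cnt p n)

theorem cnt_realised : True := by have := @cnt.eq_def; trivial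

theorem cnt_eq (p : ℕ → Bool) : ∀ n, cnt p n = ((Finset.range n).filter fun i => p i = true).card
  | 0 => rfl
  | n + 1 => by
    rw [cnt, Finset.range_add_one, Finset.filter_insert, cnt_eq p n]
    cases p n
    · simp
    · simp

theorem cnt_congr {p q : ℕ → Bool} {n : ℕ} (h : ∀ i, i < n → p i = q i) : cnt p n = cnt q n := by
  rw [cnt_eq, cnt_eq]
  congr 1
  exact Finset.filter_congr fun i hi => by rw [h i (Finset.mem_range.1 hi)]

theorem cnt_le_n (p : ℕ → Bool) (n : ℕ) : cnt p n ≤ n := by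
  rw [cnt_eq]; exact (Finset.card_filter_le _ _).trans (Finset.card_range n).le

theorem le_cnt {p : ℕ → Bool} {n : ℕ} (s : Finset ℕ) (h : ∀ i ∈ s, i < n ∧ p i = true) :
    s.card ≤ cnt p n := by
  rw [cnt_eq]
  exact Finset.card_le_card fun i hi => Finset.mem_filter.2 ⟨Finset.mem_range.2 (h i hi).1, (h i hi).2⟩

theorem exists_of_cnt {p : ℕ → Bool} {n : ℕ} (h : cnt p n ≠ 0) : ∃ i, i < n ∧ p i = true := by
  rw [cnt_eq] at h
  obtain ⟨i, hi⟩ := Finset.card_ne_zero.1 h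
  exact ⟨i, Finset.mem_range.1 (Finset.mem_filter.1 hi).1, (Finset.mem_filter.1 hi).2⟩

theorem cnt_split (p q : ℕ → Bool) : ∀ n, cnt p n = cnt (fun i => p i && q i) n +
    cnt (fun i => p i && !q i) n
  | 0 => rfl
  | n + 1 => by
    rw [cnt, cnt, cnt, cnt_split p q n]
    cases p n <;> cases q n <;> simp <;> omega

variable {G : Type*} [Group G] {M : NA G}

theorem cnt_le (y : G) {p q : ℕ → Bool} (h : ∀ i, i < M.n → p i = true → q (M.act y i) = true) :
    cnt p M.n ≤ cnt q M.n := by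
  rw [cnt_eq, cnt_eq]
  refine Finset.card_le_card_of_injOn (M.act y) (fun i hi => ?_) fun i hi j hj e => ?_
  · simp only [Finset.coe_filter, Finset.mem_range, Set.mem_ofPred_eq] at hi ⊢
    exact ⟨M.lt _ _ hi.1, h i hi.1 hi.2⟩
  · simp only [Finset.coe_filter, Finset.mem_range, Set.mem_ofPred_eq] at hi hj
    exact NA.inj y hi.1 hj.1 e

/-- the stabiliser of a point -/
def NA.stab (M : NA G) (a : ℕ) (ha : a < M.n) : Subgroup G where
  carrier := {g | M.act g a = a}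
  mul_mem' {g h} hg hh := by
    have hg' : M.act g a = a := hg
    have hh' : M.act h a = a := hh
    show M.act (g * h) a = a
    rw [M.mul _ _ _ ha, hh', hg']
  one_mem' := M.one a ha
  inv_mem' {g} hg := by
    have hg' : M.act g a = a := hg
    show M.act g⁻¹ a = a
    rw [← hg', NA.act_inv g ha, hg']

theorem NA.mem_stab {a : ℕ} {ha : a < M.n} {g : G} : g ∈ M.stab a ha ↔ M.act g a = a := Iff.rfl

theorem act_pow_fix {g : G} {a : ℕ} (ha : a < M.n) (h : M.act g a = a) (k : ℕ) :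
    M.act (g ^ k) a = a := (M.stab a ha).pow_mem h k

/-- Fixed points of a `p`-group on an invariant region. -/
theorem cnt_modEq {r : ℕ} (hr : r.Prime) {D : Subgroup G} (hD : IsPGroup r D) {p q : ℕ → Bool}
    (hinv : ∀ d ∈ D, ∀ i, i < M.n → p i = true → p (M.act d i) = true)
    (hq : ∀ i, i < M.n → (q i = true ↔ p i = true ∧ ∀ d ∈ D, M.act d i = i)) :
    cnt p M.n ≡ cnt q M.n [MOD r] := by
  haveI := Fact.mk hr
  let X := {i : ℕ // i < M.n ∧ p i = true}
  haveI : Finite X := ((Set.finite_Iio M.n).subset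
    (t := {i | i < M.n ∧ p i = true}) fun i hi => hi.1).to_subtype
  letI : MulAction D X :=
    { smul := fun d i => ⟨M.act d i, M.lt _ _ i.2.1, hinv d d.2 i i.2.1 i.2.2⟩
      one_smul := fun i => Subtype.ext (M.one i i.2.1)
      mul_smul := fun a b i => Subtype.ext (M.mul _ _ _ i.2.1) }
  have h := hD.card_modEq_card_fixedPoints X
  have e1 : Nat.card X = cnt p M.n := by
    rw [cnt_eq, ← Nat.card_eq_finsetCard]
    exact Nat.card_congr (Equiv.subtypeEquivRight fun i => by simp)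
  have e2 : Nat.card (MulAction.fixedPoints D X) = cnt q M.n := by
    rw [cnt_eq, ← Nat.card_eq_finsetCard]
    refine Nat.card_congr ⟨fun i => ⟨i.1.1, ?_⟩, fun i => ⟨⟨i.1, ?_⟩, ?_⟩, fun _ => rfl, fun _ => rfl⟩
    · exact Finset.mem_filter.2 ⟨Finset.mem_range.2 i.1.2.1, (hq _ i.1.2.1).2 ⟨i.1.2.2, fun d hd =>
        congrArg Subtype.val (i.2 ⟨d, hd⟩)⟩⟩
    · have h1 := Finset.mem_filter.1 i.2
      exact ⟨Finset.mem_range.1 h1.1, ((hq _ (Finset.mem_range.1 h1.1)).1 h1.2).1⟩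
    · intro d
      have h1 := Finset.mem_filter.1 i.2
      exact Subtype.ext (((hq _ (Finset.mem_range.1 h1.1)).1 h1.2).2 d d.2)
  rwa [e1, e2] at h

theorem isPGroup_zpowers {r k : ℕ} {y : G} (hy : y ^ r ^ k = 1) : IsPGroup r (zpowers y) := by
  rintro ⟨_, n, rfl⟩
  refine ⟨k, Subtype.ext ?_⟩
  change (y ^ n) ^ r ^ k = 1
  rw [← zpow_natCast, ← zpow_mul, mul_comm, zpow_mul, zpow_natCast, hy, one_zpow]

theorem cnt_modEq_elt [Finite G] {r k : ℕ} (hr : r.Prime) {y : G} (hy : y ^ r ^ k = 1) {p : ℕ → Bool}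
    (hinv : ∀ i, i < M.n → p i = true → p (M.act y i) = true) :
    cnt p M.n ≡ cnt (fun i => p i && Nat.beq (M.act y i) i) M.n [MOD r] := by
  refine cnt_modEq hr (isPGroup_zpowers hy) (fun d hd => ?_) fun i hi => ?_
  · obtain ⟨m, rfl⟩ := (mem_powers_iff_mem_zpowers.2 hd : d ∈ Submonoid.powers y)
    intro i hi hp
    induction m with
    | zero => simp only [pow_zero]; rwa [M.one i hi]
    | succ m ih =>
      simp only [pow_succ'] at ih ⊢
      rw [M.mul _ _ _ hi]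
      exact hinv _ (M.lt _ _ hi) (ih (pow_mem (mem_zpowers y) m))
  · rw [Bool.and_eq_true, Nat.beq_eq]
    exact and_congr_right fun _ => ⟨fun h d hd => (zpowers_le (H := M.stab i hi)).2 h hd,
      fun h => h y (mem_zpowers y)⟩

theorem exists_fix [Finite G] {r k : ℕ} (hr : r.Prime) {y : G} (hy : y ^ r ^ k = 1) {p : ℕ → Bool}
    (hinv : ∀ i, i < M.n → p i = true → p (M.act y i) = true) (h : cnt p M.n % r ≠ 0) :
    ∃ i, i < M.n ∧ p i = true ∧ M.act y i = i := by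
  have h1 := cnt_modEq_elt hr hy hinv
  obtain ⟨i, hi, h2⟩ := exists_of_cnt (p := fun i => p i && Nat.beq (M.act y i) i) (n := M.n) fun e => by
    rw [e] at h1; exact h (Eq.trans h1 (Nat.zero_mod r))
  rw [Bool.and_eq_true, Nat.beq_eq] at h2
  exact ⟨i, hi, h2⟩

/-- The orbit of a point. -/
theorem exists_orbit [Finite G] (A : Subgroup G) {a : ℕ} (ha : a < M.n) :
    ∃ p : ℕ → Bool, (∀ i, p i = true ↔ ∃ g ∈ A, M.act g a = i) ∧
      cnt p M.n * Nat.card (A ⊓ M.stab a ha : Subgroup G) = Nat.card A := by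
  classical
  refine ⟨fun i => decide (∃ g ∈ A, M.act g a = i), fun i => by simp, ?_⟩
  rw [← card_inf_mul_relIndex A (M.stab a ha), mul_comm]
  congr 1
  rw [cnt_eq, ← Nat.card_eq_finsetCard, relIndex, index]
  let f : A → {i // i ∈ (Finset.range M.n).filter fun i => decide (∃ g ∈ A, M.act g a = i) = true} :=
    fun g => ⟨M.act g a, by
      simp only [Finset.mem_filter, Finset.mem_range, decide_eq_true_eq]
      exact ⟨M.lt _ _ ha, g, g.2, rfl⟩⟩
  have hf : ∀ g h : A, (QuotientGroup.leftRel ((M.stab a ha).subgroupOf A)) g h → f g = f h := by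
    intro g h e
    have e' : M.act ((g : G)⁻¹ * h) a = a := QuotientGroup.leftRel_apply.1 e
    apply Subtype.ext
    show M.act g a = M.act h a
    rw [← e', ← M.mul _ _ _ ha, mul_inv_cancel_left, e']
  refine (Nat.card_congr (Equiv.ofBijective (Quotient.lift f hf) ⟨?_, ?_⟩)).symm
  · rintro ⟨g⟩ ⟨h⟩ e
    have e' : M.act g a = M.act h a := congrArg Subtype.val e
    refine Quotient.sound (QuotientGroup.leftRel_apply.2 ?_)
    show M.act ((g : G)⁻¹ * h) a = a
    rw [M.mul _ _ _ ha, ← e', NA.act_inv _ ha]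
  · rintro ⟨i, hi⟩
    have hi' := hi
    simp only [Finset.mem_filter, Finset.mem_range, decide_eq_true_eq] at hi'
    obtain ⟨-, g, hg, rfl⟩ := hi'
    exact ⟨Quotient.mk _ ⟨g, hg⟩, rfl⟩

theorem orbit_inv {A : Subgroup G} {a : ℕ} (ha : a < M.n) {p : ℕ → Bool}
    (hp : ∀ i, p i = true ↔ ∃ g ∈ A, M.act g a = i) {x : G} (hx : x ∈ A) (i : ℕ) (hi : i < M.n) :
    p (M.act x i) = p i := by
  rw [Bool.eq_iff_iff, hp, hp]
  constructor
  · rintro ⟨g, hg, e⟩
    exact ⟨x⁻¹ * g, A.mul_mem (A.inv_mem hx) hg, by rw [M.mul _ _ _ ha, e, NA.act_inv x hi]⟩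
  · rintro ⟨g, hg, rfl⟩
    exact ⟨x * g, A.mul_mem hx hg, M.mul _ _ _ ha⟩

/-- iterated table -/
def iter (app : ℕ → ℕ → ℕ) (P : ℕ) : ℕ → ℕ → ℕ
  | 0, i => i
  | e + 1, i => app P (iter app P e i)

theorem iter_realised : True := by have := @iter.eq_def; trivial

theorem iter_inv {P : ℕ} {x : G} (hP : M.Rep P x) {p : ℕ → Bool}
    (h : ∀ i, i < M.n → p (M.act x i) = p i) {i : ℕ} (hi : i < M.n) :
    ∀ e, iter M.app P e i < M.n ∧ p (iter M.app P e i) = p i
  | 0 => ⟨hi, rfl⟩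
  | e + 1 => by
    obtain ⟨h1, h2⟩ := iter_inv hP h hi e
    rw [iter, hP _ h1]
    exact ⟨M.lt _ _ h1, (h _ h1).trans h2⟩

/-- `cls` numbers the cycles of `P`, with representatives `rep` -/
def cyc (app : ℕ → ℕ → ℕ) (n P c m : ℕ) (cls rep : ℕ → ℕ) : Bool :=
  allB (fun i => Nat.blt (cls i) c && (Nat.blt (rep (cls i)) n &&
    (List.range m).any fun e => Nat.beq (iter app P e (rep (cls i))) i)) n

/-- An invariant region is a union of cycles. -/
theorem exists_code {P c m : ℕ} {cls rep : ℕ → ℕ} (hc : cyc M.app M.n P c m cls rep = true) {x : G}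
    (hP : M.Rep P x) {p : ℕ → Bool} (h : ∀ i, i < M.n → p (M.act x i) = p i) :
    ∃ β, β < 2 ^ c ∧ ∀ i, i < M.n → p i = β.testBit (cls i) := by
  refine ⟨Nat.ofBits fun k : Fin c => p (rep k), Nat.ofBits_lt_two_pow _, fun i hi => ?_⟩
  have h1 := allB_iff.1 hc i hi
  rw [Bool.and_eq_true, Bool.and_eq_true, Nat.blt_eq, Nat.blt_eq, List.any_eq_true] at h1
  obtain ⟨h2, h3, e, -, h4⟩ := h1
  rw [Nat.testBit_ofBits_lt _ _ h2]
  have := (iter_inv hP h h3 e).2
  rwa [Nat.eq_of_beq_eq_true h4] at this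

/-- number of fixed points -/
def NA.nfix (M : NA G) (g : G) : ℕ := cnt (fun i => Nat.beq (M.act g i) i) M.n

theorem nfix_le {g h t : G} (H : h ∈ zpowers (t * g * t⁻¹)) : M.nfix g ≤ M.nfix h := by
  refine cnt_le t fun i hi hp => ?_
  rw [Nat.beq_eq] at hp ⊢
  refine (zpowers_le (H := M.stab _ (M.lt t i hi))).2 ?_ H
  rw [NA.mem_stab, M.mul _ _ _ (M.lt t i hi), NA.act_inv t hi, M.mul _ _ _ hi, hp]

theorem nfix_rep {P : ℕ} {g : G} (h : M.Rep P g) :
    M.nfix g = cnt (fun i => Nat.beq (M.app P i) i) M.n :=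
  cnt_congr fun i hi => by rw [h i hi]

/-! ### lists of tables -/

theorem ag_mem {H : Subgroup G} : ∀ w : List ℕ, (∀ u ∈ w, ∃ g ∈ H, M.Rep u g) → ∃ g ∈ H, M.Ag w g
  | [], _ => ⟨1, H.one_mem, NA.ag_nil⟩
  | u :: w, h => by
    obtain ⟨g, hg, h1⟩ := ag_mem w fun v hv => h v (List.mem_cons_of_mem _ hv)
    obtain ⟨a, ha, h2⟩ := h u List.mem_cons_self
    exact ⟨g * a, H.mul_mem hg ha, h1.cons h2⟩

theorem NA.Ag.pow {w : List ℕ} {g : G} (h : M.Ag w g) : ∀ k, M.Ag (List.replicate k w).flatten (g ^ k)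
  | 0 => by rw [pow_zero]; exact NA.ag_nil
  | k + 1 => by
    rw [List.replicate_succ, List.flatten_cons, pow_succ]
    exact (h.pow k).append h

theorem NA.Rep.pow {P : ℕ} {g : G} (h : M.Rep P g) : ∀ k, M.Ag (List.replicate k P) (g ^ k)
  | 0 => by rw [pow_zero]; exact NA.ag_nil
  | k + 1 => by
    rw [List.replicate_succ, pow_succ]
    exact (h.pow k).cons h

theorem ne_of_weq {w v : List ℕ} {g h : G} (hw : M.Ag w g) (hv : M.Ag v h)
    (e : weq M.app M.n w v = false) : g ≠ h := by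
  rintro rfl
  rw [weq_of_eq hw hv] at e
  exact absurd e (by simp)

/-- pairwise different tables -/
def dist (app : ℕ → ℕ → ℕ) (n : ℕ) : List ℕ → Bool
  | [] => true
  | P :: L => (L.all fun Q => !weq app n [P] [Q]) && dist app n L

theorem dist_realised : True := by have := @dist.eq_def; trivial

theorem S_cons (P : ℕ) (L : List ℕ) {g : G} (hg : M.Rep P g) : M.S (P :: L) = insert g (M.S L) := by
  ext x
  constructor
  · rintro ⟨Q, hQ, hx⟩
    rcases List.mem_cons.1 hQ with rfl | hQ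
    · exact Or.inl (hx.eq hg)
    · exact Or.inr ⟨Q, hQ, hx⟩
  · rintro (rfl | ⟨Q, hQ, hx⟩)
    · exact ⟨P, List.mem_cons_self, hg⟩
    · exact ⟨Q, List.mem_cons_of_mem _ hQ, hx⟩

theorem S_nil : M.S [] = ∅ := by
  ext x; simp [NA.S]

theorem ncard_S [Finite G] : ∀ L : List ℕ, dist M.app M.n L = true → (∀ P ∈ L, ∃ g, M.Rep P g) →
    (M.S L).ncard = L.length
  | [], _, _ => by rw [S_nil]; simp
  | P :: L, hd, hL => by
    rw [dist, Bool.and_eq_true] at hd
    obtain ⟨g, hg⟩ := hL P List.mem_cons_self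
    rw [S_cons P L hg, Set.ncard_insert_of_notMem, ncard_S L hd.2 fun Q hQ =>
      hL Q (List.mem_cons_of_mem _ hQ), List.length_cons]
    rintro ⟨Q, hQ, h⟩
    have := List.all_eq_true.1 hd.1 Q hQ
    rw [weq_of_eq hg.ag h.ag] at this
    exact absurd this (by simp)

theorem S_eq [Finite G] {L : List ℕ} {X : Set G} (hd : dist M.app M.n L = true)
    (hL : ∀ P ∈ L, ∃ g ∈ X, M.Rep P g) (hc : X.ncard ≤ L.length) : M.S L = X := by
  refine Set.eq_of_subset_of_ncard_le ?_ ?_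
  · rintro x ⟨P, hP, hx⟩
    obtain ⟨g, hg, h⟩ := hL P hP
    rwa [hx.eq h]
  · rwa [ncard_S L hd fun P hP => let ⟨g, _, h⟩ := hL P hP; ⟨g, h⟩]

theorem nrm_diff {A N : Subgroup G} (h : A ≤ normalizer (N : Set G)) {a : G} (ha : a ∈ A) :
    Nrm ((N : Set G) \ {1}) a := fun s hs =>
  ⟨⟨conj_mem_of_le h ha hs.1, conj_ne_one hs.2⟩, ⟨conj_mem_of_le' h ha hs.1, by
    have := conj_ne_one (a := a⁻¹) hs.2
    rwa [inv_inv] at this⟩⟩

theorem nrm_of {A : Subgroup G} {S : Set G} (h : ∀ a ∈ A, ∀ s ∈ S, a * s * a⁻¹ ∈ S) {a : G}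
    (ha : a ∈ A) : Nrm S a := fun s hs =>
  ⟨h a ha s hs, by simpa using h a⁻¹ (A.inv_mem ha) s hs⟩

/-- the word maps the list into itself under conjugation -/
def nzF (app : ℕ → ℕ → ℕ) (n : ℕ) (L w : List ℕ) : Bool :=
  L.all fun P => L.any fun P' => weq app n (P :: w) (w ++ [P'])

theorem conj_mem_of_nzF {L w : List ℕ} (hL : ∀ P ∈ L, ∃ g, M.Rep P g)
    (h : nzF M.app M.n L w = true) {x : G} (hw : M.Ag w x) : ∀ s ∈ M.S L, x * s * x⁻¹ ∈ M.S L := by
  rintro s ⟨P, hP, hs⟩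
  obtain ⟨P', hP', h1⟩ := List.any_eq_true.1 (List.all_eq_true.1 h P hP)
  obtain ⟨g, hg⟩ := hL P' hP'
  have := eq_of_weq (hw.cons hs) (hg.ag.append hw) h1
  rw [this, mul_inv_cancel_right]
  exact ⟨P', hP', hg⟩

/-! ### sets that no pair normalises -/

/-- No maximal pair has `A` normalising `S`. -/
def Bad (S : Set G) : Prop := ∀ A B : Subgroup G, IsMaxPair A B → (∀ a ∈ A, Nrm S a) → False

theorem Bad.of_conj {S S' : Set G} (h : Bad S') (τ : G) (hS : ∀ x, x ∈ S' ↔ τ⁻¹ * x * τ ∈ S) :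
    Bad S := by
  intro A B hp hA
  refine h _ _ (hp.conj τ) fun a ha s hs => ?_
  rw [mem_map_conj] at ha
  rw [hS] at hs
  rw [hS, hS]
  have := hA _ ha _ hs
  constructor
  · convert this.1 using 1; group
  · convert this.2 using 1; group

theorem bad_of_triv {C : List (ℕ × List ℕ)} (hC : M.Complete C) {L L' ps : List ℕ} {t c c' : ℕ}
    (h : chk2 M.app M.n C L L' ps t c c' (fun w => weq M.app M.n w []) = true)
    (hL : ∀ P ∈ L, ∃ g, M.Rep P g) (ht : ∃ τ, M.Rep t τ) : Bad (M.S L) := by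
  intro A B hp hA
  obtain ⟨τ, ht⟩ := ht
  obtain ⟨x, hx, hxt, hxB⟩ := hp.pair.exists_not_mem τ
  obtain ⟨w, hw, hQ⟩ := run2 hC h hL ht (hA x hx) (hA _ hxt)
  exact hxB (eq_of_weq hw NA.ag_nil hQ ▸ B.one_mem)

end Cfsg.Agent.SP.NegS.Eng
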